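import Mathlib

set_option autoImplicit false

/-!
# Gram determinants of bilinear forms
-/

namespace Cfsg.Agent.Lib.Helper5.OrthPrime

open Module Matrix

universe u v w

section disc
variable {F : Type u} [Field F] {V : Type v} [AddCommGroup V] [Module F V]
  {V' : Type w} [AddCommGroup V'] [Module F V']

/-- the Gram matrix of a family of vectors -/
def gram {ι : Type*} (B : V →ₗ[F] V →ₗ[F] F) (b : ι → V) : Matrix ι ι F :=
  Matrix.of fun i j => B (b i) (b j)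

theorem gram_apply {ι : Type*} (B : V →ₗ[F] V →ₗ[F] F) (b : ι → V) (i j : ι) :
    gram B b i j = B (b i) (b j) := rfl

/-- `d` is the Gram determinant of some basis -/
def IsDisc (B : V →ₗ[F] V →ₗ[F] F) (d : F) : Prop :=
  ∃ (n : ℕ) (b : Basis (Fin n) F V), (gram B b).det = d

theorem gram_eq_toMatrix {n : ℕ} (B : V →ₗ[F] V →ₗ[F] F) (b : Basis (Fin n) F V) :
    gram B b = LinearMap.BilinForm.toMatrix b B := by
  ext i j
  rw [gram_apply, LinearMap.BilinForm.toMatrix_apply]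

/-- two Gram determinants differ by a nonzero square -/
theorem IsDisc.unique {B : V →ₗ[F] V →ₗ[F] F} {d d' : F} (h : IsDisc B d) (h' : IsDisc B d') :
    ∃ s : F, s ≠ 0 ∧ d' = d * s ^ 2 := by
  obtain ⟨n, b, rfl⟩ := h
  obtain ⟨n', b', rfl⟩ := h'
  have hn : n = n' := by
    have h1 := Module.finrank_eq_card_basis b
    have h2 := Module.finrank_eq_card_basis b'
    rw [Fintype.card_fin] at h1 h2
    rw [← h1, ← h2]
  subst hn
  have h1 := LinearMap.BilinForm.toMatrix_mul_basis_toMatrix b b' B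
  have h2 : b.toMatrix b' * b'.toMatrix b = 1 := Basis.toMatrix_mul_toMatrix_flip b b'
  have h3 : (b.toMatrix b').det * (b'.toMatrix b).det = 1 := by
    rw [← Matrix.det_mul, h2, Matrix.det_one]
  refine ⟨(b.toMatrix b').det, left_ne_zero_of_mul_eq_one h3, ?_⟩
  rw [gram_eq_toMatrix, gram_eq_toMatrix, ← h1, Matrix.det_mul, Matrix.det_mul,
    Matrix.det_transpose]
  ring

/-- invariance under isometries -/
theorem IsDisc.map {B : V →ₗ[F] V →ₗ[F] F} {B' : V' →ₗ[F] V' →ₗ[F] F} {d : F}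
    (h : IsDisc B d) (φ : V ≃ₗ[F] V') (hφ : ∀ x y, B' (φ x) (φ y) = B x y) : IsDisc B' d := by
  obtain ⟨n, b, rfl⟩ := h
  refine ⟨n, b.map φ, ?_⟩
  congr 1
  ext i j
  rw [gram_apply, gram_apply, Basis.map_apply, Basis.map_apply, hφ]

end disc

section prod
variable {F : Type u} [Field F] {V₁ : Type v} [AddCommGroup V₁] [Module F V₁]
  {V₂ : Type w} [AddCommGroup V₂] [Module F V₂]

/-- the orthogonal sum of two bilinear forms -/
def prodForm (B₁ : V₁ →ₗ[F] V₁ →ₗ[F] F) (B₂ : V₂ →ₗ[F] V₂ →ₗ[F] F) :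
    (V₁ × V₂) →ₗ[F] (V₁ × V₂) →ₗ[F] F :=
  B₁.compl₁₂ (LinearMap.fst F V₁ V₂) (LinearMap.fst F V₁ V₂) +
    B₂.compl₁₂ (LinearMap.snd F V₁ V₂) (LinearMap.snd F V₁ V₂)

theorem prodForm_apply (B₁ : V₁ →ₗ[F] V₁ →ₗ[F] F) (B₂ : V₂ →ₗ[F] V₂ →ₗ[F] F)
    (x y : V₁ × V₂) : prodForm B₁ B₂ x y = B₁ x.1 y.1 + B₂ x.2 y.2 := rfl

theorem IsDisc.prod {B₁ : V₁ →ₗ[F] V₁ →ₗ[F] F} {B₂ : V₂ →ₗ[F] V₂ →ₗ[F] F} {d₁ d₂ : F}
    (h₁ : IsDisc B₁ d₁) (h₂ : IsDisc B₂ d₂) : IsDisc (prodForm B₁ B₂) (d₁ * d₂) := by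
  obtain ⟨n₁, b₁, rfl⟩ := h₁
  obtain ⟨n₂, b₂, rfl⟩ := h₂
  refine ⟨n₁ + n₂, (b₁.prod b₂).reindex finSumFinEquiv, ?_⟩
  have h1 : gram (prodForm B₁ B₂) ((b₁.prod b₂).reindex finSumFinEquiv) =
      (Matrix.fromBlocks (gram B₁ b₁) 0 0 (gram B₂ b₂)).submatrix
        finSumFinEquiv.symm finSumFinEquiv.symm := by
    ext i j
    rw [gram_apply, Matrix.submatrix_apply, Basis.reindex_apply, Basis.reindex_apply,
      prodForm_apply]
    rcases h : finSumFinEquiv.symm i with a | a <;> rcases h' : finSumFinEquiv.symm j with c | c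
    · simp [gram_apply]
    · simp
    · simp
    · simp [gram_apply]
  rw [h1, Matrix.det_submatrix_equiv_self, Matrix.det_fromBlocks_zero₂₁]

end prod

end Cfsg.Agent.Lib.Helper5.OrthPrime
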