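import Mathlib
import Cfsg.Agent.Lib.Helper5.OrthPrime.Disc

set_option autoImplicit false

/-!
# Normal form of nondegenerate symmetric bilinear forms over finite fields of odd characteristic
-/

namespace Cfsg.Agent.Lib.Helper5.OrthPrime

open Module Matrix Polynomial

universe u v

section basic
variable {F : Type u} [Field F] {V : Type v} [AddCommGroup V] [Module F V]

/-- nondegeneracy (for symmetric forms) -/
def Nondeg (B : V →ₗ[F] V →ₗ[F] F) : Prop := ∀ v, (∀ w, B w v = 0) → v = 0

/-- symmetry -/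
def Symm (B : V →ₗ[F] V →ₗ[F] F) : Prop := ∀ x y, B x y = B y x

theorem exists_anisotropic [Nontrivial V] (h2 : (2 : F) ≠ 0) (B : V →ₗ[F] V →ₗ[F] F)
    (hS : Symm B) (hB : Nondeg B) : ∃ v, B v v ≠ 0 := by
  by_contra hcon
  push Not at hcon
  obtain ⟨x, hx⟩ := exists_ne (0 : V)
  apply hx
  apply hB
  intro w
  have h1 := hcon (w + x)
  simp only [map_add, LinearMap.add_apply, hcon w, hcon x, zero_add, add_zero] at h1
  rw [hS x w, ← two_mul] at h1
  exact (mul_eq_zero.1 h1).resolve_left h2

/-- the restriction of a form to a subspace -/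
abbrev resForm (B : V →ₗ[F] V →ₗ[F] F) (W : Submodule F V) : W →ₗ[F] W →ₗ[F] F :=
  B.domRestrict₁₂ W W

theorem resForm_apply (B : V →ₗ[F] V →ₗ[F] F) (W : Submodule F V) (x y : W) :
    resForm B W x y = B (x : V) (y : V) := rfl

theorem symm_resForm {B : V →ₗ[F] V →ₗ[F] F} (hS : Symm B) (W : Submodule F V) :
    Symm (resForm B W) := fun x y => hS x y

theorem nondeg_ker {B : V →ₗ[F] V →ₗ[F] F} (hB : Nondeg B) (v : V)
    (hv : B v v ≠ 0) : Nondeg (resForm B (LinearMap.ker (B v))) := by
  intro x hx
  apply Subtype.ext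
  apply hB (x : V)
  intro y
  have hw : y - ((B v v)⁻¹ * B v y) • v ∈ LinearMap.ker (B v) := by
    rw [LinearMap.mem_ker, map_sub, map_smul, smul_eq_mul, mul_comm (B v v)⁻¹, mul_assoc,
      inv_mul_cancel₀ hv, mul_one, sub_self]
  have h1 : B (y - ((B v v)⁻¹ * B v y) • v) (x : V) = 0 := hx ⟨_, hw⟩
  have h2 : B v (x : V) = 0 := LinearMap.mem_ker.1 x.2
  rw [map_sub, LinearMap.sub_apply, map_smul, LinearMap.smul_apply, h2, smul_zero, sub_zero] at h1
  exact h1

theorem finrank_ker_add_one [FiniteDimensional F V] (B : V →ₗ[F] V →ₗ[F] F) (v : V)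
    (hv : B v v ≠ 0) : finrank F (LinearMap.ker (B v)) + 1 = finrank F V := by
  have hsurj : LinearMap.range (B v) = ⊤ := by
    rw [eq_top_iff]
    intro a _
    exact ⟨((B v v)⁻¹ * a) • v, by
      rw [map_smul, smul_eq_mul, mul_comm (B v v)⁻¹, mul_assoc, inv_mul_cancel₀ hv, mul_one]⟩
  have := LinearMap.finrank_range_add_finrank_ker (B v)
  rw [hsurj, finrank_top, Module.finrank_self] at this
  omega

theorem linearIndependent_of_diag (B : V →ₗ[F] V →ₗ[F] F) {n : ℕ} (b : Fin n → V)
    (a : Fin n → F) (ha : ∀ i, a i ≠ 0)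
    (hb : ∀ i j, B (b i) (b j) = if i = j then a i else 0) : LinearIndependent F b := by
  classical
  rw [Fintype.linearIndependent_iff]
  intro c hc j
  have := congrArg (fun x => B (b j) x) hc
  simp only [map_sum, map_smul, hb, smul_eq_mul, mul_ite, mul_zero,
    Finset.sum_ite_eq, Finset.mem_univ, if_true, map_zero] at this
  exact (mul_eq_zero.1 this).resolve_right (ha j)

end basic

section finite
variable {F : Type u} [Field F] [Fintype F]

/-- binary forms over finite fields of odd order represent `1` -/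
theorem exists_repr_one (hodd : Fintype.card F % 2 = 1) (a b : F) (ha : a ≠ 0) (hb : b ≠ 0) :
    ∃ x y : F, a * x ^ 2 + b * y ^ 2 = 1 := by
  have hf : (C a * X ^ 2 - 1 : F[X]).degree = 2 := by
    rw [degree_sub_eq_left_of_degree_lt]
    · rw [degree_C_mul_X_pow 2 ha]; rfl
    · rw [degree_C_mul_X_pow 2 ha, degree_one]; exact by norm_num
  have hg : (C b * X ^ 2 : F[X]).degree = 2 := by
    rw [degree_C_mul_X_pow 2 hb]; rfl
  obtain ⟨x, y, hxy⟩ := FiniteField.exists_root_sum_quadratic hf hg hodd
  refine ⟨x, y, ?_⟩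
  simp only [eval_sub, eval_mul, eval_C, eval_pow, eval_X, eval_one] at hxy
  linear_combination hxy

/-- the diagonal `(1, …, 1, e)` -/
def diagLast (n : ℕ) (e : F) (i : Fin (n + 1)) : F := if i = Fin.last n then e else 1

theorem exists_unit_vector (h2 : (2 : F) ≠ 0) (hodd : Fintype.card F % 2 = 1)
    {V : Type v} [AddCommGroup V] [Module F V] [FiniteDimensional F V]
    (B : V →ₗ[F] V →ₗ[F] F) (hS : Symm B) (hB : Nondeg B) (hdim : 2 ≤ finrank F V) :
    ∃ v, B v v = 1 := by
  have hnt : Nontrivial V := Module.nontrivial_of_finrank_pos (R := F) (by omega)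
  obtain ⟨u, hu⟩ := exists_anisotropic h2 B hS hB
  have hk := finrank_ker_add_one B u hu
  have hnt' : Nontrivial (LinearMap.ker (B u)) :=
    Module.nontrivial_of_finrank_pos (R := F) (by omega)
  obtain ⟨w, hw⟩ := exists_anisotropic h2 (resForm B (LinearMap.ker (B u)))
    (symm_resForm hS _) (nondeg_ker hB u hu)
  rw [resForm_apply] at hw
  have huw : B u (w : V) = 0 := LinearMap.mem_ker.1 w.2
  have hwu : B (w : V) u = 0 := by rw [hS, huw]
  obtain ⟨x, y, hxy⟩ := exists_repr_one hodd (B u u) (B (w : V) (w : V)) hu hw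
  refine ⟨x • u + y • (w : V), ?_⟩
  simp only [map_add, map_smul, LinearMap.add_apply, LinearMap.smul_apply, smul_eq_mul, huw, hwu,
    mul_zero, add_zero, zero_add]
  linear_combination hxy

/-- normal form of a nondegenerate symmetric bilinear form -/
theorem exists_diag (h2 : (2 : F) ≠ 0) (hodd : Fintype.card F % 2 = 1) (n : ℕ) :
    ∀ {V : Type v} [AddCommGroup V] [Module F V] [FiniteDimensional F V]
      (B : V →ₗ[F] V →ₗ[F] F), Symm B → Nondeg B → finrank F V = n + 1 →
      ∃ (e : F) (b : Fin (n + 1) → V), e ≠ 0 ∧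
        ∀ i j, B (b i) (b j) = if i = j then diagLast n e i else 0 := by
  induction n with
  | zero =>
    intro V _ _ _ B hS hB hn
    have hnt : Nontrivial V := Module.nontrivial_of_finrank_pos (R := F) (by rw [hn]; omega)
    obtain ⟨v, hv⟩ := exists_anisotropic h2 B hS hB
    refine ⟨B v v, fun _ => v, hv, ?_⟩
    intro i j
    have hi : i = 0 := Fin.ext (by have := i.2; omega)
    have hj : j = 0 := Fin.ext (by have := j.2; omega)
    rw [hi, hj, if_pos rfl, diagLast]
    exact (if_pos rfl).symm
  | succ n ih =>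
    intro V _ _ _ B hS hB hn
    obtain ⟨v, hv⟩ := exists_unit_vector h2 hodd B hS hB (by rw [hn]; omega)
    have hv0 : B v v ≠ 0 := by rw [hv]; exact one_ne_zero
    have hk := finrank_ker_add_one B v hv0
    obtain ⟨e, b', he, hb'⟩ := ih (resForm B (LinearMap.ker (B v))) (symm_resForm hS _)
      (nondeg_ker hB v hv0) (by omega)
    refine ⟨e, Fin.cons v (fun i => (b' i : V)), he, ?_⟩
    intro i j
    refine Fin.cases ?_ (fun i => ?_) i <;> refine Fin.cases ?_ (fun j => ?_) j
    · rw [if_pos rfl, diagLast, if_neg (by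
        intro h
        have := congrArg Fin.val h
        simp at this)]
      simpa using hv
    · simp only [Fin.cons_zero, Fin.cons_succ]
      rw [LinearMap.mem_ker.1 (b' j).2, if_neg (Fin.succ_ne_zero j).symm]
    · simp only [Fin.cons_zero, Fin.cons_succ]
      rw [hS, LinearMap.mem_ker.1 (b' i).2, if_neg (Fin.succ_ne_zero i)]
    · simp only [Fin.cons_succ, Fin.succ_inj]
      have h1 := hb' i j
      rw [resForm_apply] at h1
      rw [h1]
      by_cases hij : i = j
      · rw [if_pos hij, if_pos hij, diagLast, diagLast]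
        by_cases hl : i = Fin.last n
        · rw [if_pos hl, if_pos (by rw [hl]; rfl)]
        · rw [if_neg hl, if_neg (by
            intro h
            apply hl
            rw [← Fin.succ_last] at h
            exact Fin.succ_injective _ h)]
      · rw [if_neg hij, if_neg hij]

end finite

end Cfsg.Agent.Lib.Helper5.OrthPrime
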