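import Mathlib
import Cfsg.Agent.Lib.Helper5.OrthPrime.Diag

set_option autoImplicit false

/-!
# Classification of nondegenerate symmetric bilinear forms over finite fields of odd order
by dimension and discriminant
-/

namespace Cfsg.Agent.Lib.Helper5.OrthPrime

open Module Matrix Polynomial

universe u v

section classify
variable {F : Type u} [Field F]

theorem prod_diagLast (n : ℕ) (e : F) : ∏ i, diagLast n e i = e := by
  rw [Fin.prod_univ_castSucc]
  have h1 : ∀ i : Fin n, diagLast n e i.castSucc = 1 := by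
    intro i
    unfold diagLast
    rw [if_neg (Fin.castSucc_lt_last i).ne]
  simp only [h1, Finset.prod_const_one, one_mul]
  unfold diagLast
  rw [if_pos rfl]

theorem diagLast_ne_zero (n : ℕ) {e : F} (he : e ≠ 0) (i : Fin (n + 1)) : diagLast n e i ≠ 0 := by
  unfold diagLast
  split_ifs
  · exact he
  · exact one_ne_zero

variable {V : Type v} [AddCommGroup V] [Module F V]

/-- a family with diagonal Gram matrix `(1, …, 1, e)` as a basis -/
noncomputable def diagBasis [FiniteDimensional F V] (B : V →ₗ[F] V →ₗ[F] F) {n : ℕ}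
    (b : Fin (n + 1) → V) {e : F} (he : e ≠ 0)
    (hb : ∀ i j, B (b i) (b j) = if i = j then diagLast n e i else 0)
    (hdim : finrank F V = n + 1) : Basis (Fin (n + 1)) F V :=
  basisOfLinearIndependentOfCardEqFinrank
    (linearIndependent_of_diag B b (diagLast n e) (diagLast_ne_zero n he) hb)
    (by rw [Fintype.card_fin, hdim])

theorem diagBasis_apply [FiniteDimensional F V] (B : V →ₗ[F] V →ₗ[F] F) {n : ℕ}
    (b : Fin (n + 1) → V) {e : F} (he : e ≠ 0)
    (hb : ∀ i j, B (b i) (b j) = if i = j then diagLast n e i else 0)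
    (hdim : finrank F V = n + 1) (i : Fin (n + 1)) : diagBasis B b he hb hdim i = b i := by
  unfold diagBasis
  rw [coe_basisOfLinearIndependentOfCardEqFinrank]

theorem isDisc_of_diag [FiniteDimensional F V] (B : V →ₗ[F] V →ₗ[F] F) {n : ℕ}
    (b : Fin (n + 1) → V) {e : F} (he : e ≠ 0)
    (hb : ∀ i j, B (b i) (b j) = if i = j then diagLast n e i else 0)
    (hdim : finrank F V = n + 1) : IsDisc B e := by
  refine ⟨n + 1, diagBasis B b he hb hdim, ?_⟩
  have h1 : gram B (diagBasis B b he hb hdim) = Matrix.diagonal (diagLast n e) := by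
    ext i j
    rw [gram_apply, diagBasis_apply, diagBasis_apply, hb, Matrix.diagonal_apply]
  rw [h1, Matrix.det_diagonal, prod_diagLast]

/-- rescaling the last vector -/
theorem rescale_last (B : V →ₗ[F] V →ₗ[F] F) {n : ℕ} (b : Fin (n + 1) → V) (e t : F)
    (hb : ∀ i j, B (b i) (b j) = if i = j then diagLast n e i else 0) :
    ∃ b' : Fin (n + 1) → V,
      ∀ i j, B (b' i) (b' j) = if i = j then diagLast n (e * t ^ 2) i else 0 := by
  classical
  refine ⟨fun i => if i = Fin.last n then t • b i else b i, ?_⟩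
  intro i j
  simp only []
  by_cases hi : i = Fin.last n
  · by_cases hj : j = Fin.last n
    · rw [if_pos hi, if_pos hj, hi, hj, if_pos rfl, map_smul, map_smul, LinearMap.smul_apply, hb,
        if_pos rfl, diagLast, diagLast, if_pos rfl, if_pos rfl, smul_eq_mul, smul_eq_mul]
      ring
    · rw [if_pos hi, if_neg hj, map_smul, LinearMap.smul_apply, hb, hi,
        if_neg (Ne.symm hj), if_neg (Ne.symm hj), smul_zero]
  · by_cases hj : j = Fin.last n
    · rw [if_neg hi, if_pos hj, map_smul, hb, hj, if_neg hi, if_neg hi, smul_zero]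
    · rw [if_neg hi, if_neg hj, hb]
      by_cases hij : i = j
      · rw [if_pos hij, if_pos hij, diagLast, diagLast, if_neg hi, if_neg hi]
      · rw [if_neg hij, if_neg hij]

end classify

section main
variable {F : Type u} [Field F] [Fintype F]

/-- **Classification.** Nondegenerate symmetric bilinear forms of the same dimension over a
finite field of odd order whose discriminants agree up to squares are isometric. -/
theorem exists_isometry_of_isDisc (h2 : (2 : F) ≠ 0) (hodd : Fintype.card F % 2 = 1)
    {V V' : Type v} [AddCommGroup V] [Module F V] [FiniteDimensional F V]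
    [AddCommGroup V'] [Module F V'] [FiniteDimensional F V']
    (B : V →ₗ[F] V →ₗ[F] F) (B' : V' →ₗ[F] V' →ₗ[F] F) (hS : Symm B) (hS' : Symm B')
    (hB : Nondeg B) (hB' : Nondeg B') (hdim : finrank F V = finrank F V') {d d' : F}
    (hd : IsDisc B d) (hd' : IsDisc B' d') (hdd : ∃ s : F, s ≠ 0 ∧ d' = d * s ^ 2) :
    ∃ φ : V ≃ₗ[F] V', ∀ x y, B' (φ x) (φ y) = B x y := by
  rcases Nat.eq_zero_or_pos (finrank F V) with h0 | hpos
  · have hs : Subsingleton V := Module.finrank_zero_iff.1 h0
    refine ⟨LinearEquiv.ofFinrankEq V V' hdim, ?_⟩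
    intro x y
    have hx : x = 0 := Subsingleton.elim _ _
    subst hx
    simp
  · obtain ⟨n, hn⟩ : ∃ n, finrank F V = n + 1 := ⟨finrank F V - 1, by omega⟩
    have hn' : finrank F V' = n + 1 := by rw [← hdim, hn]
    obtain ⟨e, b, he, hb⟩ := exists_diag h2 hodd n B hS hB hn
    obtain ⟨e', b', he', hb'⟩ := exists_diag h2 hodd n B' hS' hB' hn'
    obtain ⟨s₁, hs₁, h1⟩ := hd.unique (isDisc_of_diag B b he hb hn)
    obtain ⟨s₂, hs₂, h2'⟩ := hd'.unique (isDisc_of_diag B' b' he' hb' hn')
    obtain ⟨s, hs, h3⟩ := hdd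
    -- `e' = e * t ^ 2`
    have h4 : e' = e * (s * s₂ / s₁) ^ 2 := by
      rw [h2', h3, h1]
      field_simp
    obtain ⟨b'', hb''⟩ := rescale_last B b e (s * s₂ / s₁) hb
    rw [← h4] at hb''
    refine ⟨(diagBasis B b'' he' hb'' hn).equiv (diagBasis B' b' he' hb' hn') (Equiv.refl _), ?_⟩
    have h5 : (B'.compl₁₂
        ((diagBasis B b'' he' hb'' hn).equiv (diagBasis B' b' he' hb' hn')
          (Equiv.refl _)).toLinearMap
        ((diagBasis B b'' he' hb'' hn).equiv (diagBasis B' b' he' hb' hn')
          (Equiv.refl _)).toLinearMap) = B := by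
      apply LinearMap.ext_basis (diagBasis B b'' he' hb'' hn) (diagBasis B b'' he' hb'' hn)
      intro i j
      rw [LinearMap.compl₁₂_apply, LinearEquiv.coe_coe, Basis.equiv_apply, Basis.equiv_apply,
        Equiv.refl_apply, Equiv.refl_apply, diagBasis_apply, diagBasis_apply, diagBasis_apply,
        diagBasis_apply, hb', hb'']
    intro x y
    conv_rhs => rw [← h5]
    rfl

end main

end Cfsg.Agent.Lib.Helper5.OrthPrime
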