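import Mathlib
import Cfsg.Agent.Lib.Helper5.OrthPrime.Classify

set_option autoImplicit false

/-!
# Cancellation for symmetric bilinear forms over finite fields of odd order
-/

namespace Cfsg.Agent.Lib.Helper5.OrthPrime

open Module Matrix Polynomial

universe u v

section cancel
variable {F : Type u} [Field F] {V : Type v} [AddCommGroup V] [Module F V]

theorem exists_isDisc [FiniteDimensional F V] (B : V →ₗ[F] V →ₗ[F] F) : ∃ d, IsDisc B d :=
  ⟨_, finrank F V, Module.finBasis F V, rfl⟩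

theorem IsDisc.ne_zero {B : V →ₗ[F] V →ₗ[F] F} (hS : Symm B) (hB : Nondeg B) {d : F}
    (h : IsDisc B d) : d ≠ 0 := by
  obtain ⟨n, b, rfl⟩ := h
  rw [gram_eq_toMatrix]
  apply (LinearMap.BilinForm.nondegenerate_iff_det_ne_zero b).1
  refine ⟨?_, ?_⟩
  · intro x hx
    apply hB x
    intro w
    rw [hS]
    exact hx w
  · intro y hy
    exact hB y hy

/-- nondegeneracy of a summand of an orthogonal decomposition -/
theorem nondeg_of_isCompl {B : V →ₗ[F] V →ₗ[F] F} (hS : Symm B) (hB : Nondeg B)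
    {U W : Submodule F V} (hUW : IsCompl U W) (horth : ∀ u ∈ U, ∀ w ∈ W, B u w = 0) :
    Nondeg (resForm B U) := by
  intro v hv
  apply Subtype.ext
  apply hB (v : V)
  intro x
  have hx : x ∈ (U ⊔ W : Submodule F V) := by rw [hUW.sup_eq_top]; trivial
  obtain ⟨u, hu, w, hw, rfl⟩ := Submodule.mem_sup.mp hx
  rw [map_add, LinearMap.add_apply, hS w, horth _ v.2 w hw, add_zero]
  exact hv ⟨u, hu⟩

/-- the Gram determinant of an orthogonal decomposition -/
theorem isDisc_of_isCompl {B : V →ₗ[F] V →ₗ[F] F} (hS : Symm B)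
    {U W : Submodule F V} (hUW : IsCompl U W) (horth : ∀ u ∈ U, ∀ w ∈ W, B u w = 0)
    {d e : F} (hd : IsDisc (resForm B U) d) (he : IsDisc (resForm B W) e) :
    IsDisc B (d * e) := by
  apply (hd.prod he).map (Submodule.prodEquivOfIsCompl U W hUW)
  intro x y
  rw [Submodule.coe_prodEquivOfIsCompl', Submodule.coe_prodEquivOfIsCompl', prodForm_apply,
    map_add, map_add, LinearMap.add_apply, LinearMap.add_apply,
    horth _ x.1.2 _ y.2.2, hS (x.2 : V) (y.1 : V), horth _ y.1.2 _ x.2.2, add_zero, zero_add]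
  rfl

end cancel

section main
variable {F : Type u} [Field F] [Fintype F] {V : Type v} [AddCommGroup V] [Module F V]
  [FiniteDimensional F V]

/-- **Cancellation.** -/
theorem exists_isometry_compl (h2 : (2 : F) ≠ 0) (hodd : Fintype.card F % 2 = 1)
    (B : V →ₗ[F] V →ₗ[F] F) (hS : Symm B) (hB : Nondeg B) {U₁ W₁ U₂ W₂ : Submodule F V}
    (h₁ : IsCompl U₁ W₁) (h₂ : IsCompl U₂ W₂) (horth₁ : ∀ u ∈ U₁, ∀ w ∈ W₁, B u w = 0)
    (horth₂ : ∀ u ∈ U₂, ∀ w ∈ W₂, B u w = 0) (ψ : W₁ ≃ₗ[F] W₂)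
    (hψ : ∀ x y : W₁, B (ψ x : V) (ψ y : V) = B (x : V) (y : V)) :
    ∃ φ : U₁ ≃ₗ[F] U₂, ∀ x y : U₁, B (φ x : V) (φ y : V) = B (x : V) (y : V) := by
  have horth₁' : ∀ w ∈ W₁, ∀ u ∈ U₁, B w u = 0 := fun w hw u hu => by rw [hS]; exact horth₁ u hu w hw
  have horth₂' : ∀ w ∈ W₂, ∀ u ∈ U₂, B w u = 0 := fun w hw u hu => by rw [hS]; exact horth₂ u hu w hw
  have hnU₁ := nondeg_of_isCompl hS hB h₁ horth₁
  have hnU₂ := nondeg_of_isCompl hS hB h₂ horth₂
  have hnW₁ := nondeg_of_isCompl hS hB h₁.symm horth₁'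
  obtain ⟨d₁, hd₁⟩ := exists_isDisc (resForm B U₁)
  obtain ⟨d₂, hd₂⟩ := exists_isDisc (resForm B U₂)
  obtain ⟨e, he₁⟩ := exists_isDisc (resForm B W₁)
  have he₂ : IsDisc (resForm B W₂) e := he₁.map ψ hψ
  have he0 : e ≠ 0 := he₁.ne_zero (symm_resForm hS _) hnW₁
  have hD₁ := isDisc_of_isCompl hS h₁ horth₁ hd₁ he₁
  have hD₂ := isDisc_of_isCompl hS h₂ horth₂ hd₂ he₂
  obtain ⟨s, hs, h3⟩ := hD₁.unique hD₂
  have hdim : finrank F U₁ = finrank F U₂ := by
    have e1 := Submodule.finrank_add_eq_of_isCompl h₁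
    have e2 := Submodule.finrank_add_eq_of_isCompl h₂
    have e3 := ψ.finrank_eq
    omega
  obtain ⟨φ, hφ⟩ := exists_isometry_of_isDisc h2 hodd (resForm B U₁) (resForm B U₂)
    (symm_resForm hS _) (symm_resForm hS _) hnU₁ hnU₂ hdim hd₁ hd₂ ⟨s, hs, by
      have h4 : d₂ * e = d₁ * s ^ 2 * e := by rw [h3]; ring
      exact mul_right_cancel₀ he0 h4⟩
  exact ⟨φ, fun x y => hφ x y⟩

end main

end Cfsg.Agent.Lib.Helper5.OrthPrime
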