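import Mathlib
import Cfsg.Agent.Lib.Helper5.OrthPrime.Cancel
import Cfsg.Agent.Lib.Helper5.SemiConj.Main

set_option autoImplicit false

/-!
# Orthogonal isometries of odd order prime to the characteristic
-/

namespace Cfsg.Agent.Lib.Helper5.OrthPrime

open Module Matrix Polynomial
open Cfsg.Agent.Lib.Helper5.SemiConj

universe u v

/-- an isometry of odd order `r` (invertible in `F`) of a nondegenerate symmetric bilinear form -/
structure OData (F : Type u) [Field F] (V : Type v) [AddCommGroup V] [Module F V] where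
  B : V →ₗ[F] V →ₗ[F] F
  g : V →ₗ[F] V
  gi : V →ₗ[F] V
  r : ℕ
  symm : Symm B
  nondeg : Nondeg B
  isom : ∀ x y, B (g x) (g y) = B x y
  gi_g : ∀ x, gi (g x) = x
  g_gi : ∀ x, g (gi x) = x
  hr : g ^ r = 1
  rodd : Odd r
  r0 : (r : F) ≠ 0
  two : (2 : F) ≠ 0

namespace OData

variable {F : Type u} [Field F] {V : Type v} [AddCommGroup V] [Module F V] (D : OData F V)

theorem B_g_left (x y : V) : D.B (D.g x) y = D.B x (D.gi y) := by
  conv_lhs => rw [← D.g_gi y]
  exact D.isom x (D.gi y)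

theorem B_gi_left (x y : V) : D.B (D.gi x) y = D.B x (D.g y) := by
  rw [← D.isom (D.gi x) y, D.g_gi]

theorem isom_gi (x y : V) : D.B (D.gi x) (D.gi y) = D.B x y := by
  rw [B_gi_left, D.g_gi]

theorem gi_eq_of_g_eq {x : V} (h : D.g x = x) : D.gi x = x := by
  conv_lhs => rw [← h]
  exact D.gi_g x

theorem g_pow_apply (x : V) : (D.g ^ D.r) x = x := by rw [D.hr]; rfl

/-- the fixed space -/
def V1 : Submodule F V := LinearMap.ker (D.g - 1)

/-- the moved space -/
def W : Submodule F V := LinearMap.range (D.g - 1)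

theorem mem_V1 (x : V) : x ∈ D.V1 ↔ D.g x = x := by
  unfold V1
  rw [LinearMap.mem_ker, LinearMap.sub_apply, Module.End.one_apply, sub_eq_zero]

theorem mem_W (x : V) : x ∈ D.W ↔ ∃ y, D.g y - y = x := by
  unfold W
  rw [LinearMap.mem_range]
  rfl

theorem orth : ∀ u ∈ D.V1, ∀ w ∈ D.W, D.B u w = 0 := by
  intro u hu w hw
  rw [mem_V1] at hu
  obtain ⟨y, rfl⟩ := (D.mem_W w).1 hw
  rw [map_sub, ← D.B_gi_left, D.gi_eq_of_g_eq hu, sub_self]

theorem g_pow_of_sq {x y : V} (hy : D.g y - y = x) (hx : D.g x = x) (k : ℕ) :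
    (D.g ^ k) y = y + (k : F) • x := by
  induction k with
  | zero => simp
  | succ k ih =>
    rw [pow_succ', Module.End.mul_apply, ih, map_add, map_smul, hx, Nat.cast_succ, add_smul,
      one_smul, ← hy]
    abel

theorem disjoint : Disjoint D.V1 D.W := by
  rw [Submodule.disjoint_def]
  intro x hx hw
  rw [mem_V1] at hx
  obtain ⟨y, hy⟩ := (D.mem_W x).1 hw
  have h1 := D.g_pow_of_sq hy hx D.r
  rw [D.g_pow_apply] at h1
  have h2 : (D.r : F) • x = 0 := by
    have h3 : y + (D.r : F) • x = y + 0 := by rw [add_zero]; exact h1.symm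
    exact add_left_cancel h3
  exact (smul_eq_zero.1 h2).resolve_left D.r0

theorem isCompl [FiniteDimensional F V] : IsCompl D.V1 D.W := by
  refine ⟨D.disjoint, ?_⟩
  rw [codisjoint_iff]
  apply Submodule.eq_top_of_disjoint _ _ _ D.disjoint
  have := LinearMap.finrank_range_add_finrank_ker (D.g - 1)
  unfold V1 W
  omega

theorem g_mem_W : ∀ x ∈ D.W, D.g x ∈ D.W := by
  intro x hx
  obtain ⟨y, rfl⟩ := (D.mem_W x).1 hx
  exact (D.mem_W _).2 ⟨D.g y, by rw [map_sub]⟩

theorem gi_mem_W : ∀ x ∈ D.W, D.gi x ∈ D.W := by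
  intro x hx
  obtain ⟨y, rfl⟩ := (D.mem_W x).1 hx
  exact (D.mem_W _).2 ⟨D.gi y, by rw [map_sub, D.g_gi, D.gi_g]⟩

/-- `g + 1` is injective -/
theorem add_one_injective {x : V} (h : D.g x + x = 0) : x = 0 := by
  have h1 : D.g x = -x := eq_neg_of_add_eq_zero_left h
  have h2 : ∀ k : ℕ, (D.g ^ k) x = (-1 : F) ^ k • x := by
    intro k
    induction k with
    | zero => simp
    | succ k ih =>
      rw [pow_succ', Module.End.mul_apply, ih, map_smul, h1, pow_succ, smul_neg, mul_neg_one,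
        neg_smul]
  have h3 := h2 D.r
  rw [D.g_pow_apply, D.rodd.neg_one_pow, neg_one_smul] at h3
  have h4 : (2 : F) • x = 0 := by
    rw [two_smul]
    nth_rewrite 1 [h3]
    exact neg_add_cancel x
  exact (smul_eq_zero.1 h4).resolve_left D.two

/-- the skew operator `g - g⁻¹` -/
def T : V →ₗ[F] V := D.g - D.gi

theorem T_apply (x : V) : D.T x = D.g x - D.gi x := rfl

theorem T_g (x : V) : D.T (D.g x) = D.g (D.T x) := by
  rw [T_apply, T_apply, map_sub, D.gi_g, D.g_gi]

theorem T_gi (x : V) : D.T (D.gi x) = D.gi (D.T x) := by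
  rw [T_apply, T_apply, map_sub, D.gi_g, D.g_gi]

theorem T_mem_W : ∀ x ∈ D.W, D.T x ∈ D.W := by
  intro x hx
  rw [T_apply]
  exact D.W.sub_mem (D.g_mem_W x hx) (D.gi_mem_W x hx)

theorem T_injective_on_W {x : V} (hx : x ∈ D.W) (h : D.T x = 0) : x = 0 := by
  rw [T_apply, sub_eq_zero] at h
  -- `g (g x) = x`
  have h1 : D.g (D.g x) = x := by rw [h, D.g_gi]
  -- `(g + 1) (g x - x) = 0`
  have h2 : D.g (D.g x - x) + (D.g x - x) = 0 := by
    rw [map_sub, h1]
    abel
  have h3 := D.add_one_injective h2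
  have h4 : x ∈ D.V1 := (D.mem_V1 x).2 (sub_eq_zero.1 h3)
  exact Submodule.disjoint_def.1 D.disjoint x h4 hx

/-- the alternating form `B (T x) y` -/
def A : V →ₗ[F] V →ₗ[F] F := D.B.comp D.T

theorem A_apply (x y : V) : D.A x y = D.B (D.T x) y := rfl

theorem A_skew (x y : V) : D.A x y = -D.A y x := by
  rw [A_apply, A_apply, T_apply, T_apply, map_sub, map_sub, LinearMap.sub_apply,
    LinearMap.sub_apply, D.B_g_left, D.B_gi_left, D.symm x (D.gi y), D.symm x (D.g y)]
  ring

theorem A_self (x : V) : D.A x x = 0 := by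
  rw [A_apply, T_apply, map_sub, LinearMap.sub_apply, D.B_g_left, D.symm x (D.gi x), sub_self]

theorem A_isom (x y : V) : D.A (D.g x) (D.g y) = D.A x y := by
  rw [A_apply, A_apply, T_g, D.isom]

end OData

end Cfsg.Agent.Lib.Helper5.OrthPrime
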