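import Mathlib
import Cfsg.Agent.Lib.Helper5.OrthPrime.OData

set_option autoImplicit false

/-!
# Conjugacy of orthogonal isometries of odd order prime to the characteristic
-/

namespace Cfsg.Agent.Lib.Helper5.OrthPrime

open Module Matrix Polynomial
open Cfsg.Agent.Lib.Helper5.SemiConj

universe u v

namespace OData

variable {F : Type u} [Field F] {V : Type v} [AddCommGroup V] [Module F V] (D : OData F V)

theorem g_mem_V1 : ∀ x ∈ D.V1, D.g x ∈ D.V1 := by
  intro x hx
  rw [mem_V1] at hx ⊢
  rw [hx, hx]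

theorem gi_pow : D.gi ^ D.r = 1 := by
  have h1 : D.gi * D.g = 1 := LinearMap.ext fun x => D.gi_g x
  have h2 : D.g * D.gi = 1 := LinearMap.ext fun x => D.g_gi x
  have hc : Commute D.gi D.g := by
    show D.gi * D.g = D.g * D.gi
    rw [h1, h2]
  calc D.gi ^ D.r = D.gi ^ D.r * D.g ^ D.r := by rw [D.hr, mul_one]
    _ = (D.gi * D.g) ^ D.r := (hc.mul_pow D.r).symm
    _ = 1 := by rw [h1, one_pow]

theorem isSemisimple_of_pow {W : Type*} [AddCommGroup W] [Module F W] (f : Module.End F W)
    (r : ℕ) (hr0 : (r : F) ≠ 0) (h : f ^ r = 1) : f.IsSemisimple := by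
  have hsep : (X ^ r - C (1 : F) : F[X]).Separable :=
    Polynomial.separable_X_pow_sub_C (1 : F) hr0 one_ne_zero
  apply Module.End.isSemisimple_of_squarefree_aeval_eq_zero hsep.squarefree
  rw [map_sub, map_pow, aeval_X, aeval_C, h, map_one]
  exact sub_self _

theorem ss : Module.End.IsSemisimple D.g := isSemisimple_of_pow D.g D.r D.r0 D.hr

theorem ssi : Module.End.IsSemisimple D.gi := isSemisimple_of_pow D.gi D.r D.r0 D.gi_pow

variable [FiniteDimensional F V]

theorem T_surjective_on_W : ∀ w ∈ D.W, ∃ x ∈ D.W, D.T x = w := by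
  have hinj : Function.Injective (D.T.restrict D.T_mem_W) := by
    rw [← LinearMap.ker_eq_bot, LinearMap.ker_eq_bot']
    intro x hx
    apply Subtype.ext
    exact D.T_injective_on_W x.2 (congrArg Subtype.val hx)
  have hsurj := LinearMap.injective_iff_surjective.1 hinj
  intro w hw
  obtain ⟨x, hx⟩ := hsurj ⟨w, hw⟩
  exact ⟨x, x.2, congrArg Subtype.val hx⟩

theorem A_nondeg_W : ∀ v ∈ D.W, (∀ w ∈ D.W, D.A w v = 0) → v = 0 := by
  intro v hv h
  apply D.nondeg v
  intro x
  have hx : x ∈ (D.V1 ⊔ D.W : Submodule F V) := by rw [D.isCompl.sup_eq_top]; trivial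
  obtain ⟨u, hu, w, hw, rfl⟩ := Submodule.mem_sup.mp hx
  obtain ⟨w', hw', rfl⟩ := D.T_surjective_on_W w hw
  rw [map_add, LinearMap.add_apply, D.orth u hu v hv, zero_add]
  exact h w' hw'

/-- the symplectic data on the moved space -/
noncomputable def altData : IsoData (RingHom.id F) (-1 : F) D.W where
  B := D.A.domRestrict₁₂ D.W D.W
  g := D.g.restrict D.g_mem_W
  gi := D.gi.restrict D.gi_mem_W
  sig2 := fun _ => rfl
  eps := neg_ne_zero.2 one_ne_zero
  herm := fun x y => by
    show D.A x y = -1 * D.A y x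
    rw [A_skew]
    ring
  alt := fun _ x => D.A_self x
  nondeg := fun v h => Subtype.ext (D.A_nondeg_W v v.2 fun w hw => h ⟨w, hw⟩)
  isom := fun x y => D.A_isom x y
  gi_g := fun x => Subtype.ext (D.gi_g x)
  g_gi := fun x => Subtype.ext (D.g_gi x)
  ss := Module.End.IsSemisimple.restrict (p := D.W) D.g_mem_W D.ss
  ssi := Module.End.IsSemisimple.restrict (p := D.W) D.gi_mem_W D.ssi

theorem altData_B (x y : D.W) : D.altData.B x y = D.A x y := rfl

theorem altData_g (x : D.W) : (D.altData.g x : V) = D.g x := rfl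

theorem altData_gi (x : D.W) : (D.altData.gi x : V) = D.gi x := rfl

/-- the characteristic polynomial of `g` in terms of that on the moved space -/
theorem charpoly_eq : LinearMap.charpoly D.g =
    (X - 1) ^ finrank F D.V1 * LinearMap.charpoly D.altData.g := by
  have h1 : D.g.restrict D.g_mem_V1 = 1 := by
    apply LinearMap.ext
    intro x
    apply Subtype.ext
    exact (D.mem_V1 x).1 x.2
  have h2 := LinearEquiv.charpoly_conj (Submodule.prodEquivOfIsCompl D.V1 D.W D.isCompl)
    ((D.g.restrict D.g_mem_V1).prodMap D.altData.g)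
  have h3 : (Submodule.prodEquivOfIsCompl D.V1 D.W D.isCompl).conj
      ((D.g.restrict D.g_mem_V1).prodMap D.altData.g) = D.g := by
    apply LinearMap.ext
    intro x
    rw [LinearEquiv.conj_apply]
    have hx : x ∈ (D.V1 ⊔ D.W : Submodule F V) := by rw [D.isCompl.sup_eq_top]; trivial
    obtain ⟨u, hu, w, hw, rfl⟩ := Submodule.mem_sup.mp hx
    have e1 : (Submodule.prodEquivOfIsCompl D.V1 D.W D.isCompl).symm (u + w) =
        ((⟨u, hu⟩ : D.V1), (⟨w, hw⟩ : D.W)) := by
      rw [LinearEquiv.symm_apply_eq, Submodule.coe_prodEquivOfIsCompl']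
    simp only [LinearMap.coe_comp, LinearEquiv.coe_coe, Function.comp_apply, e1,
      LinearMap.prodMap_apply, Submodule.coe_prodEquivOfIsCompl']
    rw [map_add]
    rfl
  rw [h3, LinearMap.charpoly_prodMap, h1, LinearMap.charpoly_one] at h2
  exact h2

/-- the moved part has no fixed vectors -/
theorem eval_one_charpoly_ne : (LinearMap.charpoly D.altData.g).eval 1 ≠ 0 := by
  intro h
  have h1 : (LinearMap.charpoly D.altData.g).IsRoot 1 := h
  rw [← Module.End.hasEigenvalue_iff_isRoot_charpoly] at h1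
  obtain ⟨x, hx⟩ := h1.exists_hasEigenvector
  have h2 : D.altData.g x = x := by
    have := hx.apply_eq_smul
    rwa [one_smul] at this
  have h3 : D.g (x : V) = x := by
    have := congrArg Subtype.val h2
    exact this
  have h4 : (x : V) = 0 :=
    Submodule.disjoint_def.1 D.disjoint x ((D.mem_V1 _).2 h3) x.2
  exact hx.2 (Subtype.ext h4)

theorem finrank_V1_eq : finrank F D.V1 = (LinearMap.charpoly D.g).rootMultiplicity 1 := by
  have h0 : LinearMap.charpoly D.altData.g ≠ 0 := (LinearMap.charpoly_monic _).ne_zero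
  have h1 : ((X - 1 : F[X]) ^ finrank F D.V1 * LinearMap.charpoly D.altData.g) ≠ 0 :=
    mul_ne_zero (pow_ne_zero _ (X_sub_C_ne_zero (1 : F))) h0
  rw [D.charpoly_eq, rootMultiplicity_mul h1, ← C_1, rootMultiplicity_X_sub_C_pow,
    rootMultiplicity_eq_zero D.eval_one_charpoly_ne, add_zero]

end OData

end Cfsg.Agent.Lib.Helper5.OrthPrime
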