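import Mathlib
import Cfsg.Agent.Lib.Helper5.OrthPrime.OConj

set_option autoImplicit false

/-!
# Conjugacy of orthogonal isometries of odd order: the main theorem
-/

namespace Cfsg.Agent.Lib.Helper5.OrthPrime

open Module Matrix Polynomial
open Cfsg.Agent.Lib.Helper5.SemiConj

universe u v

namespace OData

variable {F : Type u} [Field F] [Fintype F] {V : Type v} [AddCommGroup V] [Module F V]
  [FiniteDimensional F V]

/-- **Conjugacy.** Two isometries of odd order prime to the characteristic of the same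
nondegenerate symmetric bilinear form over a finite field of odd order, with the same
characteristic polynomial, are conjugate under an isometry. -/
theorem exists_isometry_conj (hodd : Fintype.card F % 2 = 1) (D D' : OData F V)
    (hB : D'.B = D.B) (hchar : LinearMap.charpoly D.g = LinearMap.charpoly D'.g) :
    ∃ φ : V ≃ₗ[F] V, (∀ x y, D.B (φ x) (φ y) = D.B x y) ∧ ∀ x, φ (D.g x) = D'.g (φ x) := by
  have hdim1 : finrank F D.V1 = finrank F D'.V1 := by
    rw [finrank_V1_eq, finrank_V1_eq, hchar]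
  have hcharW : LinearMap.charpoly D.altData.g = LinearMap.charpoly D'.altData.g := by
    have h1 := D.charpoly_eq
    have h2 := D'.charpoly_eq
    rw [hchar, h2, ← hdim1] at h1
    exact mul_left_cancel₀ (pow_ne_zero _ (X_sub_C_ne_zero (1 : F))) h1.symm
  obtain ⟨ψ, hψB, hψg⟩ := Cfsg.Agent.Lib.Helper5.SemiConj.exists_isometry D.altData D'.altData hcharW
  have hψgi : ∀ x : D.W, ψ (D.altData.gi x) = D'.altData.gi (ψ x) := by
    intro x
    have h1 := hψg (D.altData.gi x)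
    rw [D.altData.g_gi] at h1
    rw [h1, D'.altData.gi_g]
  have hψT : ∀ (x : D.W) (hx : D.T (x : V) ∈ D.W),
      ((ψ ⟨D.T (x : V), hx⟩ : D'.W) : V) = D'.T ((ψ x : D'.W) : V) := by
    intro x hx
    have h1 : (⟨D.T (x : V), hx⟩ : D.W) = D.altData.g x - D.altData.gi x := by
      apply Subtype.ext
      rfl
    rw [h1, map_sub, hψg, hψgi]
    rfl
  have hψ : ∀ z y : D.W, D.B ((ψ z : D'.W) : V) ((ψ y : D'.W) : V) = D.B (z : V) (y : V) := by
    intro z y
    obtain ⟨x, hx, hxz⟩ := D.T_surjective_on_W z z.2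
    have h1 : z = ⟨D.T ((⟨x, hx⟩ : D.W) : V), D.T_mem_W x hx⟩ := Subtype.ext hxz.symm
    rw [h1, hψT ⟨x, hx⟩, ← hB]
    have h2 := hψB ⟨x, hx⟩ y
    rw [altData_B, altData_B, A_apply, A_apply] at h2
    rw [h2, hB]
  have horth' : ∀ u ∈ D'.V1, ∀ w ∈ D'.W, D.B u w = 0 := by
    rw [← hB]
    exact D'.orth
  obtain ⟨φ₁, hφ₁⟩ := exists_isometry_compl D.two hodd D.B D.symm D.nondeg D.isCompl D'.isCompl
    D.orth horth' ψ hψ
  -- gluing
  obtain ⟨φ, hφ⟩ : ∃ φ : V ≃ₗ[F] V, φ =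
      (Submodule.prodEquivOfIsCompl D.V1 D.W D.isCompl).symm.trans
        ((φ₁.prodCongr ψ).trans (Submodule.prodEquivOfIsCompl D'.V1 D'.W D'.isCompl)) := ⟨_, rfl⟩
  have key : ∀ (u : D.V1) (w : D.W), φ ((u : V) + (w : V)) = (φ₁ u : V) + (ψ w : V) := by
    intro u w
    have e1 : (Submodule.prodEquivOfIsCompl D.V1 D.W D.isCompl).symm ((u : V) + (w : V)) =
        (u, w) := by
      rw [LinearEquiv.symm_apply_eq, Submodule.coe_prodEquivOfIsCompl']
    rw [hφ, LinearEquiv.trans_apply, e1, LinearEquiv.trans_apply, LinearEquiv.prodCongr_apply,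
      Submodule.coe_prodEquivOfIsCompl']
  have hdec : ∀ x : V, ∃ (u : D.V1) (w : D.W), x = (u : V) + (w : V) := by
    intro x
    have hx : x ∈ (D.V1 ⊔ D.W : Submodule F V) := by rw [D.isCompl.sup_eq_top]; trivial
    obtain ⟨u, hu, w, hw, rfl⟩ := Submodule.mem_sup.mp hx
    exact ⟨⟨u, hu⟩, ⟨w, hw⟩, rfl⟩
  refine ⟨φ, ?_, ?_⟩
  · intro x y
    obtain ⟨u, w, rfl⟩ := hdec x
    obtain ⟨u', w', rfl⟩ := hdec y
    rw [key, key]
    have z1 : D.B ((φ₁ u : D'.V1) : V) ((ψ w' : D'.W) : V) = 0 := horth' _ (φ₁ u).2 _ (ψ w').2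
    have z2 : D.B ((ψ w : D'.W) : V) ((φ₁ u' : D'.V1) : V) = 0 := by
      rw [D.symm]; exact horth' _ (φ₁ u').2 _ (ψ w).2
    have z3 : D.B (u : V) (w' : V) = 0 := D.orth _ u.2 _ w'.2
    have z4 : D.B (w : V) (u' : V) = 0 := by rw [D.symm]; exact D.orth _ u'.2 _ w.2
    simp only [map_add, LinearMap.add_apply, z1, z2, z3, z4, hφ₁, hψ]
  · intro x
    obtain ⟨u, w, rfl⟩ := hdec x
    have h1 : D.g ((u : V) + (w : V)) = (u : V) + ((D.altData.g w : D.W) : V) := by
      rw [map_add, (D.mem_V1 _).1 u.2]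
      rfl
    rw [h1, key, key, hψg, map_add, (D'.mem_V1 _).1 (φ₁ u).2]
    rfl

end OData

end Cfsg.Agent.Lib.Helper5.OrthPrime
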