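import Mathlib
import Cfsg.Prelude.Def_Classical
import Cfsg.Agent.Lib.Helper5.OrthPrime.OConj2
import Cfsg.Agent.Lib.Helper5.SemiCount.Star

set_option autoImplicit false

/-!
# Matrix groups of isometries of a quadratic form: conjugacy of elements of odd order
-/

namespace Cfsg.Agent.Lib.Helper5.OrthPrime

open Module Matrix Polynomial Cfsg
open Cfsg.Agent.Lib.Helper5.SemiConj Cfsg.Agent.Lib.Helper5.SemiCount

universe u

/-- a quadratic form on `ι → F` together with its polar form -/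
structure QSpace (F : Type u) [Field F] (ι : Type) [Fintype ι] [DecidableEq ι] where
  Q : (ι → F) → F
  B : (ι → F) →ₗ[F] (ι → F) →ₗ[F] F
  symm : Symm B
  nondeg : Nondeg B
  polar : ∀ x y, B x y = Q (x + y) - Q x - Q y
  self : ∀ x, B x x = 2 * Q x

namespace QSpace

variable {F : Type u} [Field F] {ι : Type} [Fintype ι] [DecidableEq ι] (S : QSpace F ι)

theorem mem_iff (g : GL ι F) :
    g ∈ Cfsg.isometryGroup F S.Q ↔ ∀ u, S.Q ((g : Matrix ι ι F) *ᵥ u) = S.Q u := by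
  constructor
  · intro h u
    exact h u u
  · intro h u _
    exact h u

theorem B_mulVec (g : ↥(Cfsg.isometryGroup F S.Q)) (x y : ι → F) :
    S.B (((g : GL ι F) : Matrix ι ι F) *ᵥ x) (((g : GL ι F) : Matrix ι ι F) *ᵥ y) = S.B x y := by
  have h := (S.mem_iff g).1 g.2
  rw [S.polar, S.polar, ← Matrix.mulVec_add, h, h, h]

theorem coe_pow' (g : ↥(Cfsg.isometryGroup F S.Q)) (k : ℕ) :
    (((g ^ k : ↥(Cfsg.isometryGroup F S.Q)) : GL ι F) : Matrix ι ι F) =
      (((g : GL ι F) : Matrix ι ι F)) ^ k := by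
  rw [Subgroup.coe_pow, Units.val_pow_eq_pow_val]

theorem mul_inv' (g : ↥(Cfsg.isometryGroup F S.Q)) :
    (((g : GL ι F) : Matrix ι ι F)) * (((g⁻¹ : ↥(Cfsg.isometryGroup F S.Q)) : GL ι F) : Matrix ι ι F)
      = 1 := by
  rw [Subgroup.coe_inv, ← Units.val_mul, mul_inv_cancel, Units.val_one]

theorem inv_mul' (g : ↥(Cfsg.isometryGroup F S.Q)) :
    (((g⁻¹ : ↥(Cfsg.isometryGroup F S.Q)) : GL ι F) : Matrix ι ι F) * (((g : GL ι F) : Matrix ι ι F))
      = 1 := by
  rw [Subgroup.coe_inv, ← Units.val_mul, inv_mul_cancel, Units.val_one]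

/-- the orthogonal data of an element of odd order -/
noncomputable def oData (g : ↥(Cfsg.isometryGroup F S.Q)) (r : ℕ) (hr : g ^ r = 1) (rodd : Odd r)
    (r0 : (r : F) ≠ 0) (two : (2 : F) ≠ 0) : OData F (ι → F) where
  B := S.B
  g := Matrix.toLin' ((g : GL ι F) : Matrix ι ι F)
  gi := Matrix.toLin' (((g⁻¹ : ↥(Cfsg.isometryGroup F S.Q)) : GL ι F) : Matrix ι ι F)
  r := r
  symm := S.symm
  nondeg := S.nondeg
  isom := fun x y => by
    rw [Matrix.toLin'_apply, Matrix.toLin'_apply]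
    exact S.B_mulVec g x y
  gi_g := fun x => by
    rw [Matrix.toLin'_apply, Matrix.toLin'_apply, Matrix.mulVec_mulVec, S.inv_mul',
      Matrix.one_mulVec]
  g_gi := fun x => by
    rw [Matrix.toLin'_apply, Matrix.toLin'_apply, Matrix.mulVec_mulVec, S.mul_inv',
      Matrix.one_mulVec]
  hr := by
    have h1 : Matrix.toLin' (((g : GL ι F) : Matrix ι ι F) ^ r) =
        Matrix.toLin' ((g : GL ι F) : Matrix ι ι F) ^ r :=
      map_pow (Matrix.toLinAlgEquiv' (R := F) (n := ι)) _ r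
    rw [← h1, ← S.coe_pow', hr]
    exact Matrix.toLin'_one
  rodd := rodd
  r0 := r0
  two := two

/-- an isometry of the polar form as an element of the isometry group -/
theorem exists_of_isometry (two : (2 : F) ≠ 0) (φ : (ι → F) ≃ₗ[F] (ι → F))
    (hφ : ∀ x y, S.B (φ x) (φ y) = S.B x y) :
    ∃ P : ↥(Cfsg.isometryGroup F S.Q), ∀ v, ((P : GL ι F) : Matrix ι ι F) *ᵥ v = φ v := by
  have hmul : ∀ v, LinearMap.toMatrix' (φ : (ι → F) →ₗ[F] (ι → F)) *ᵥ v = φ v :=
    fun v => LinearMap.toMatrix'_mulVec _ v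
  have h1 : LinearMap.toMatrix' (φ : (ι → F) →ₗ[F] (ι → F)) *
      LinearMap.toMatrix' (φ.symm : (ι → F) →ₗ[F] (ι → F)) = 1 := by
    rw [← LinearMap.toMatrix'_comp, ← LinearMap.toMatrix'_id]
    congr 1
    ext v
    simp
  have h2 : LinearMap.toMatrix' (φ.symm : (ι → F) →ₗ[F] (ι → F)) *
      LinearMap.toMatrix' (φ : (ι → F) →ₗ[F] (ι → F)) = 1 := mul_eq_one_comm.1 h1
  refine ⟨⟨⟨_, _, h1, h2⟩, ?_⟩, hmul⟩
  rw [S.mem_iff]
  intro u
  show S.Q (LinearMap.toMatrix' (φ : (ι → F) →ₗ[F] (ι → F)) *ᵥ u) = S.Q u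
  rw [hmul]
  have h3 := hφ u u
  rw [S.self, S.self] at h3
  exact mul_left_cancel₀ two h3

/-- **Conjugacy in the isometry group.** -/
theorem isConj_of_charpoly_eq [Fintype F] (hodd : Fintype.card F % 2 = 1) (two : (2 : F) ≠ 0)
    (g h : ↥(Cfsg.isometryGroup F S.Q)) (r : ℕ) (rodd : Odd r) (r0 : (r : F) ≠ 0)
    (hg : g ^ r = 1) (hh : h ^ r = 1)
    (hc : ((g : GL ι F) : Matrix ι ι F).charpoly = ((h : GL ι F) : Matrix ι ι F).charpoly) :
    IsConj g h := by
  obtain ⟨φ, hφB, hφg⟩ := OData.exists_isometry_conj hodd (S.oData g r hg rodd r0 two)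
    (S.oData h r hh rodd r0 two) rfl (by
      show LinearMap.charpoly (Matrix.toLin' ((g : GL ι F) : Matrix ι ι F)) =
        LinearMap.charpoly (Matrix.toLin' ((h : GL ι F) : Matrix ι ι F))
      rw [Matrix.charpoly_toLin', Matrix.charpoly_toLin', hc])
  obtain ⟨P, hP⟩ := S.exists_of_isometry two φ hφB
  rw [isConj_iff]
  refine ⟨P, ?_⟩
  rw [mul_inv_eq_iff_eq_mul]
  apply Subtype.ext
  apply Units.ext
  show ((P : GL ι F) : Matrix ι ι F) * ((g : GL ι F) : Matrix ι ι F) =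
    ((h : GL ι F) : Matrix ι ι F) * ((P : GL ι F) : Matrix ι ι F)
  apply Matrix.toLin'.injective
  apply LinearMap.ext
  intro v
  rw [Matrix.toLin'_apply, Matrix.toLin'_apply, ← Matrix.mulVec_mulVec, ← Matrix.mulVec_mulVec,
    hP, hP]
  have := hφg v
  exact this

end QSpace

end Cfsg.Agent.Lib.Helper5.OrthPrime
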