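import Mathlib
import Cfsg.Agent.Lib.Helper5.OrthPrime.OMat

set_option autoImplicit false

/-!
# Characteristic polynomials of orthogonal matrices are self-dual
-/

namespace Cfsg.Agent.Lib.Helper5.OrthPrime

open Module Matrix Polynomial Cfsg
open Cfsg.Agent.Lib.Helper5.SemiConj Cfsg.Agent.Lib.Helper5.SemiCount

universe u

namespace QSpace

variable {F : Type u} [Field F] {ι : Type} [Fintype ι] [DecidableEq ι] (S : QSpace F ι)

/-- the Gram matrix of the polar form -/
noncomputable def G : Matrix ι ι F := LinearMap.BilinForm.toMatrix (Pi.basisFun F ι) S.B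

theorem G_det_ne_zero : S.G.det ≠ 0 := by
  unfold G
  apply (LinearMap.BilinForm.nondegenerate_iff_det_ne_zero (Pi.basisFun F ι)).1
  refine ⟨?_, ?_⟩
  · intro x hx
    apply S.nondeg x
    intro w
    rw [S.symm]
    exact hx w
  · intro y hy
    exact S.nondeg y hy

theorem G_invariant (g : ↥(Cfsg.isometryGroup F S.Q)) :
    ((g : GL ι F) : Matrix ι ι F)ᵀ * S.G * ((g : GL ι F) : Matrix ι ι F) = S.G := by
  have h1 : LinearMap.BilinForm.comp S.B (Matrix.toLin' ((g : GL ι F) : Matrix ι ι F))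
      (Matrix.toLin' ((g : GL ι F) : Matrix ι ι F)) = S.B := by
    apply LinearMap.ext
    intro x
    apply LinearMap.ext
    intro y
    rw [LinearMap.BilinForm.comp_apply, Matrix.toLin'_apply, Matrix.toLin'_apply]
    exact S.B_mulVec g x y
  have h2 := LinearMap.BilinForm.toMatrix_comp (Pi.basisFun F ι) (Pi.basisFun F ι) S.B
    (Matrix.toLin' ((g : GL ι F) : Matrix ι ι F)) (Matrix.toLin' ((g : GL ι F) : Matrix ι ι F))
  rw [h1, LinearMap.toMatrix_eq_toMatrix', LinearMap.toMatrix'_toLin'] at h2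
  exact h2.symm

theorem charpoly_star (g : ↥(Cfsg.isometryGroup F S.Q)) :
    star (RingHom.id F) ((g : GL ι F) : Matrix ι ι F).charpoly =
      ((g : GL ι F) : Matrix ι ι F).charpoly := by
  obtain ⟨M, hM⟩ : ∃ M : Matrix ι ι F, M = ((g : GL ι F) : Matrix ι ι F) := ⟨_, rfl⟩
  rw [← hM]
  have hdet : M.det ≠ 0 := by
    rw [hM]
    exact Matrix.GeneralLinearGroup.det_ne_zero _
  have hGu : IsUnit S.G := (Matrix.isUnit_iff_isUnit_det _).2 (isUnit_iff_ne_zero.2 S.G_det_ne_zero)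
  obtain ⟨Gu, hGu'⟩ := hGu
  have hinv := S.G_invariant g
  rw [← hM] at hinv
  have hid : (M⁻¹).map (RingHom.id F) = M⁻¹ := by
    ext i j
    rfl
  rw [← charpoly_inv_map_transpose (RingHom.id F) M hdet, hid]
  have h1 : (M⁻¹)ᵀ = (Gu : Matrix ι ι F) * M * ((Gu⁻¹ : (Matrix ι ι F)ˣ) : Matrix ι ι F) := by
    rw [Matrix.transpose_nonsing_inv]
    apply Matrix.inv_eq_left_inv
    have h0 : Mᵀ * ((Gu : Matrix ι ι F) * M * ((Gu⁻¹ : (Matrix ι ι F)ˣ) : Matrix ι ι F)) = 1 := by
      rw [← mul_assoc, ← mul_assoc, hGu', hinv, ← hGu', Units.mul_inv]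
    exact mul_eq_one_comm.1 h0
  rw [h1, Matrix.coe_units_inv, Matrix.charpoly_units_conj]

end QSpace

end Cfsg.Agent.Lib.Helper5.OrthPrime
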