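import Mathlib
import Cfsg.Agent.Lib.Helper5.OrthPrime.OStar

set_option autoImplicit false

/-!
# From symplectic isometries of odd order to orthogonal isometries
-/

namespace Cfsg.Agent.Lib.Helper5.OrthPrime

open Module Matrix Polynomial Cfsg
open Cfsg.Agent.Lib.Helper5.SemiConj Cfsg.Agent.Lib.Helper5.SemiCount

universe u

section diagform
variable {F : Type u} [Field F]

/-- the diagonal bilinear form -/
noncomputable def diagForm {n : ℕ} (a : Fin n → F) : (Fin n → F) →ₗ[F] (Fin n → F) →ₗ[F] F :=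
  Matrix.toLinearMap₂' F (Matrix.diagonal a)

theorem diagForm_apply {n : ℕ} (a : Fin n → F) (x y : Fin n → F) :
    diagForm a x y = ∑ i, x i * (a i * y i) := by
  unfold diagForm
  rw [Matrix.toLinearMap₂'_apply']
  simp only [dotProduct, Matrix.mulVec_diagonal]

theorem diagForm_symm {n : ℕ} (a : Fin n → F) : Symm (diagForm a) := by
  intro x y
  rw [diagForm_apply, diagForm_apply]
  apply Finset.sum_congr rfl
  intro i _
  ring

theorem diagForm_nondeg {n : ℕ} (a : Fin n → F) (ha : ∀ i, a i ≠ 0) : Nondeg (diagForm a) := by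
  classical
  intro v hv
  funext i
  have h1 := hv (Pi.single i 1)
  rw [diagForm_apply, Finset.sum_eq_single i] at h1
  · rw [Pi.single_eq_same, one_mul] at h1
    exact (mul_eq_zero.1 h1).resolve_left (ha i)
  · intro j _ hj
    rw [Pi.single_eq_of_ne hj, zero_mul]
  · intro h
    exact absurd (Finset.mem_univ i) h

theorem diagForm_isDisc (k₀ : ℕ) (d : F) : IsDisc (diagForm (diagLast k₀ d)) d := by
  classical
  refine ⟨k₀ + 1, Pi.basisFun F (Fin (k₀ + 1)), ?_⟩
  have h1 : gram (diagForm (diagLast k₀ d)) (Pi.basisFun F (Fin (k₀ + 1))) =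
      Matrix.diagonal (diagLast k₀ d) := by
    ext i j
    rw [gram_apply, Pi.basisFun_apply, Pi.basisFun_apply, diagForm_apply,
      Finset.sum_eq_single i]
    · rw [Pi.single_eq_same, one_mul, Matrix.diagonal_apply]
      by_cases hij : i = j
      · rw [if_pos hij, hij, Pi.single_eq_same, mul_one]
      · rw [if_neg hij, Pi.single_eq_of_ne hij, mul_zero]
    · intro l _ hl
      rw [Pi.single_eq_of_ne hl, zero_mul]
    · intro h
      exact absurd (Finset.mem_univ i) h
  rw [h1, Matrix.det_diagonal, prod_diagLast]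

end diagform

section prodform
variable {F : Type u} [Field F] {V₁ V₂ : Type u} [AddCommGroup V₁] [Module F V₁]
  [AddCommGroup V₂] [Module F V₂]

theorem prodForm_symm {B₁ : V₁ →ₗ[F] V₁ →ₗ[F] F} {B₂ : V₂ →ₗ[F] V₂ →ₗ[F] F} (h₁ : Symm B₁)
    (h₂ : Symm B₂) : Symm (prodForm B₁ B₂) := by
  intro x y
  rw [prodForm_apply, prodForm_apply, h₁, h₂]

theorem prodForm_nondeg {B₁ : V₁ →ₗ[F] V₁ →ₗ[F] F} {B₂ : V₂ →ₗ[F] V₂ →ₗ[F] F} (h₁ : Nondeg B₁)
    (h₂ : Nondeg B₂) : Nondeg (prodForm B₁ B₂) := by
  intro v hv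
  apply Prod.ext
  · apply h₁
    intro w
    have := hv (w, 0)
    rw [prodForm_apply] at this
    simpa using this
  · apply h₂
    intro w
    have := hv (0, w)
    rw [prodForm_apply] at this
    simpa using this

end prodform

section pow
variable {F : Type u} [Field F] {V : Type u} [AddCommGroup V] [Module F V]

theorem add_one_injective_of_pow (g : Module.End F V) (r : ℕ) (rodd : Odd r)
    (two : (2 : F) ≠ 0) (hr : g ^ r = 1) {x : V} (h : g x + x = 0) : x = 0 := by
  have h1 : g x = -x := eq_neg_of_add_eq_zero_left h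
  have h2 : ∀ k : ℕ, (g ^ k) x = (-1 : F) ^ k • x := by
    intro k
    induction k with
    | zero => simp
    | succ k ih =>
      rw [pow_succ', Module.End.mul_apply, ih, map_smul, h1, pow_succ, smul_neg, mul_neg_one,
        neg_smul]
  have h3 := h2 r
  rw [hr, Module.End.one_apply, rodd.neg_one_pow, neg_one_smul] at h3
  have h4 : (2 : F) • x = 0 := by
    rw [two_smul]
    nth_rewrite 1 [h3]
    exact neg_add_cancel x
  exact (smul_eq_zero.1 h4).resolve_left two

end pow

end Cfsg.Agent.Lib.Helper5.OrthPrime
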