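import Mathlib
import Cfsg.Agent.Lib.Helper5.OrthPrime.OReal

set_option autoImplicit false

/-!
# Realising orthogonal isometries from symplectic ones
-/

namespace Cfsg.Agent.Lib.Helper5.OrthPrime

open Module Matrix Polynomial Cfsg
open Cfsg.Agent.Lib.Helper5.SemiConj Cfsg.Agent.Lib.Helper5.SemiCount

universe u

section symp
variable {F : Type u} [Field F] {V : Type u} [AddCommGroup V] [Module F V]
  (E : IsoData (RingHom.id F) (-1 : F) V)

/-- the symmetric form `ω(x, (g - g⁻¹) y)` attached to a symplectic isometry -/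
def symForm : V →ₗ[F] V →ₗ[F] F := LinearMap.compl₂ E.B (E.g - E.gi)

theorem symForm_apply (x y : V) : symForm E x y = E.B x (E.g y) - E.B x (E.gi y) := by
  unfold symForm
  rw [LinearMap.compl₂_apply, LinearMap.sub_apply, map_sub]

theorem E_skew (x y : V) : E.B x y = -E.B y x := by
  have h := E.herm x y
  rw [RingHom.id_apply] at h
  rw [h]
  ring

theorem E_g_left (x y : V) : E.B (E.g x) y = E.B x (E.gi y) := by
  conv_lhs => rw [← E.g_gi y]
  exact E.isom x (E.gi y)

theorem E_gi_left (x y : V) : E.B (E.gi x) y = E.B x (E.g y) := by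
  rw [← E.isom (E.gi x) y, E.g_gi]

theorem symForm_symm : Symm (symForm E) := by
  intro x y
  rw [symForm_apply, symForm_apply, ← E_gi_left, ← E_g_left, E_skew E (E.gi x) y,
    E_skew E (E.g x) y]
  ring

theorem symForm_isom (x y : V) : symForm E (E.g x) (E.g y) = symForm E x y := by
  rw [symForm_apply, symForm_apply, E.isom, E_g_left, E.gi_g]

theorem symForm_nondeg (r : ℕ) (rodd : Odd r) (two : (2 : F) ≠ 0) (hr : E.g ^ r = 1)
    (hfix : ∀ v, E.g v = v → v = 0) : Nondeg (symForm E) := by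
  intro v hv
  have h1 : E.g v - E.gi v = 0 := by
    apply E.nondeg
    intro w
    have := hv w
    rw [symForm_apply, ← map_sub] at this
    exact this
  have h2 : E.g v = E.gi v := sub_eq_zero.1 h1
  have h3 : E.g (E.g v) = v := by rw [h2, E.g_gi]
  have h4 : E.g (E.g v - v) + (E.g v - v) = 0 := by
    rw [map_sub, h3]
    abel
  have h5 := add_one_injective_of_pow E.g r rodd two hr h4
  exact hfix v (sub_eq_zero.1 h5)

end symp

section real
variable {F : Type u} [Field F] [Fintype F]

omit [Fintype F] in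
theorem conj_pow_apply {V V' : Type u} [AddCommGroup V] [Module F V] [AddCommGroup V']
    [Module F V'] (φ : V ≃ₗ[F] V') (f : Module.End F V) (k : ℕ) (x : V') :
    ((φ.conj f) ^ k) x = φ ((f ^ k) (φ.symm x)) := by
  induction k generalizing x with
  | zero => simp
  | succ k ih =>
    rw [pow_succ, Module.End.mul_apply, ih, pow_succ, Module.End.mul_apply, LinearEquiv.conj_apply]
    simp

omit [Fintype F] in
theorem prodMap_id_pow_apply {V U : Type u} [AddCommGroup V] [Module F V] [AddCommGroup U]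
    [Module F U] (f : Module.End F V) (k : ℕ) (x : V × U) :
    ((f.prodMap (LinearMap.id : U →ₗ[F] U) : Module.End F (V × U)) ^ k) x = ((f ^ k) x.1, x.2) := by
  induction k generalizing x with
  | zero => simp
  | succ k ih =>
    rw [pow_succ, Module.End.mul_apply, ih, pow_succ, Module.End.mul_apply]
    simp

/-- **Realisation.** -/
theorem exists_orth_of_symp (hodd : Fintype.card F % 2 = 1) (two : (2 : F) ≠ 0)
    {V : Type u} [AddCommGroup V] [Module F V] [FiniteDimensional F V]
    (E : IsoData (RingHom.id F) (-1 : F) V) (r : ℕ) (rodd : Odd r)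
    (hr : E.g ^ r = 1) (hfix : ∀ v, E.g v = v → v = 0) (k₀ : ℕ)
    {Vt : Type u} [AddCommGroup Vt] [Module F Vt] [FiniteDimensional F Vt]
    (Bt : Vt →ₗ[F] Vt →ₗ[F] F) (hSt : Symm Bt) (hNt : Nondeg Bt)
    (hdim : finrank F Vt = finrank F V + (k₀ + 1)) :
    ∃ g gi : Vt →ₗ[F] Vt, (∀ x, gi (g x) = x) ∧ (∀ x, g (gi x) = x) ∧
      (∀ x y, Bt (g x) (g y) = Bt x y) ∧ g ^ r = 1 ∧
      LinearMap.charpoly g = LinearMap.charpoly E.g * (X - 1) ^ (k₀ + 1) := by
  have hSw := symForm_symm E
  have hNw := symForm_nondeg E r rodd two hr hfix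
  obtain ⟨dW, hdW⟩ := exists_isDisc (symForm E)
  have hdW0 := hdW.ne_zero hSw hNw
  obtain ⟨Dt, hDt⟩ := exists_isDisc Bt
  have hDt0 := hDt.ne_zero hSt hNt
  obtain ⟨d, hd⟩ : ∃ d : F, d = Dt / dW := ⟨_, rfl⟩
  have hd0 : d ≠ 0 := by rw [hd]; exact div_ne_zero hDt0 hdW0
  have hSk := diagForm_symm (diagLast k₀ d)
  have hNk := diagForm_nondeg (diagLast k₀ d) (diagLast_ne_zero k₀ hd0)
  have hdk := diagForm_isDisc k₀ d
  have hD' : IsDisc (prodForm (symForm E) (diagForm (diagLast k₀ d))) Dt := by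
    have := hdW.prod hdk
    have e : dW * d = Dt := by rw [hd, mul_div_cancel₀ _ hdW0]
    rwa [e] at this
  have hdim' : finrank F (V × (Fin (k₀ + 1) → F)) = finrank F Vt := by
    rw [Module.finrank_prod, Module.finrank_fin_fun, hdim]
  obtain ⟨φ, hφ⟩ := exists_isometry_of_isDisc two hodd
    (prodForm (symForm E) (diagForm (diagLast k₀ d))) Bt (prodForm_symm hSw hSk) hSt
    (prodForm_nondeg hNw hNk) hNt hdim' hD' hDt ⟨1, one_ne_zero, by rw [one_pow, mul_one]⟩
  obtain ⟨g', hg'⟩ : ∃ g' : Module.End F (V × (Fin (k₀ + 1) → F)),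
    g' = E.g.prodMap LinearMap.id := ⟨_, rfl⟩
  obtain ⟨gi', hgi'⟩ : ∃ gi' : Module.End F (V × (Fin (k₀ + 1) → F)),
    gi' = E.gi.prodMap LinearMap.id := ⟨_, rfl⟩
  have h1 : ∀ x, gi' (g' x) = x := by
    intro x
    rw [hg', hgi', LinearMap.prodMap_apply, LinearMap.prodMap_apply, E.gi_g]
    rfl
  have h2 : ∀ x, g' (gi' x) = x := by
    intro x
    rw [hg', hgi', LinearMap.prodMap_apply, LinearMap.prodMap_apply, E.g_gi]
    rfl
  have h3 : ∀ x y, prodForm (symForm E) (diagForm (diagLast k₀ d)) (g' x) (g' y) =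
      prodForm (symForm E) (diagForm (diagLast k₀ d)) x y := by
    intro x y
    rw [hg', prodForm_apply, prodForm_apply, LinearMap.prodMap_apply, LinearMap.prodMap_apply]
    simp only [LinearMap.id_apply]
    rw [symForm_isom]
  refine ⟨φ.conj g', φ.conj gi', ?_, ?_, ?_, ?_, ?_⟩
  · intro x
    rw [LinearEquiv.conj_apply, LinearEquiv.conj_apply]
    simp [h1]
  · intro x
    rw [LinearEquiv.conj_apply, LinearEquiv.conj_apply]
    simp [h2]
  · intro x y
    rw [LinearEquiv.conj_apply]
    simp only [LinearMap.coe_comp, LinearEquiv.coe_coe, Function.comp_apply]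
    rw [hφ, h3, ← hφ, LinearEquiv.apply_symm_apply, LinearEquiv.apply_symm_apply]
  · apply LinearMap.ext
    intro x
    rw [conj_pow_apply, hg', prodMap_id_pow_apply, hr, Module.End.one_apply,
      Module.End.one_apply]
    simp
  · rw [LinearEquiv.charpoly_conj, hg', LinearMap.charpoly_prodMap]
    congr 1
    have : (LinearMap.id : (Fin (k₀ + 1) → F) →ₗ[F] (Fin (k₀ + 1) → F)) = 1 := rfl
    rw [this, LinearMap.charpoly_one, Module.finrank_fin_fun]

end real

end Cfsg.Agent.Lib.Helper5.OrthPrime
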