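import Mathlib
import Cfsg.Prelude.Def_Classical
import Cfsg.Agent.Lib.Helper5.OrthPrime.OMat

set_option autoImplicit false

/-!
# The quadratic space of `quadFormOdd`
-/

namespace Cfsg.Agent.Lib.Helper5.OrthPrime

open Module Matrix Polynomial Cfsg

universe u

section qodd
variable {F : Type u} [Field F] (m : ℕ)

/-- the polar form of `quadFormOdd` -/
noncomputable def polarOdd :
    (Unit ⊕ (Fin m ⊕ Fin m) → F) →ₗ[F] (Unit ⊕ (Fin m ⊕ Fin m) → F) →ₗ[F] F :=
  LinearMap.mk₂ F (fun x y => 2 * x (.inl ()) * y (.inl ()) +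
      ∑ i : Fin m, (x (.inr (.inl i)) * y (.inr (.inr i)) + x (.inr (.inr i)) * y (.inr (.inl i))))
    (by
      intro x x' y
      simp only [Pi.add_apply]
      rw [add_add_add_comm, ← Finset.sum_add_distrib]
      congr 1
      · ring
      · exact Finset.sum_congr rfl (fun i _ => by ring))
    (by
      intro c x y
      simp only [Pi.smul_apply, smul_eq_mul]
      rw [mul_add, Finset.mul_sum]
      congr 1
      · ring
      · exact Finset.sum_congr rfl (fun i _ => by ring))
    (by
      intro x y y'
      simp only [Pi.add_apply]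
      rw [add_add_add_comm, ← Finset.sum_add_distrib]
      congr 1
      · ring
      · exact Finset.sum_congr rfl (fun i _ => by ring))
    (by
      intro c x y
      simp only [Pi.smul_apply, smul_eq_mul]
      rw [mul_add, Finset.mul_sum]
      congr 1
      · ring
      · exact Finset.sum_congr rfl (fun i _ => by ring))

theorem polarOdd_apply (x y : Unit ⊕ (Fin m ⊕ Fin m) → F) :
    polarOdd m x y = 2 * x (.inl ()) * y (.inl ()) +
      ∑ i : Fin m, (x (.inr (.inl i)) * y (.inr (.inr i)) + x (.inr (.inr i)) * y (.inr (.inl i))) :=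
  rfl

theorem polarOdd_symm : Symm (polarOdd (F := F) m) := by
  intro x y
  rw [polarOdd_apply, polarOdd_apply]
  congr 1
  · ring
  · exact Finset.sum_congr rfl (fun i _ => by ring)

theorem polarOdd_polar (x y : Unit ⊕ (Fin m ⊕ Fin m) → F) :
    polarOdd m x y = quadFormOdd m F (x + y) - quadFormOdd m F x - quadFormOdd m F y := by
  rw [polarOdd_apply]
  unfold quadFormOdd
  simp only [Pi.add_apply]
  have h : ∑ i : Fin m, (x (.inr (.inl i)) + y (.inr (.inl i))) *
      (x (.inr (.inr i)) + y (.inr (.inr i))) =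
      ∑ i : Fin m, x (.inr (.inl i)) * x (.inr (.inr i)) +
      ∑ i : Fin m, y (.inr (.inl i)) * y (.inr (.inr i)) +
      ∑ i : Fin m, (x (.inr (.inl i)) * y (.inr (.inr i)) +
        x (.inr (.inr i)) * y (.inr (.inl i))) := by
    rw [← Finset.sum_add_distrib, ← Finset.sum_add_distrib]
    exact Finset.sum_congr rfl (fun i _ => by ring)
  rw [h]
  ring

theorem polarOdd_self (x : Unit ⊕ (Fin m ⊕ Fin m) → F) :
    polarOdd m x x = 2 * quadFormOdd m F x := by
  rw [polarOdd_apply]
  unfold quadFormOdd
  rw [mul_add, Finset.mul_sum]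
  congr 1
  · ring
  · exact Finset.sum_congr rfl (fun i _ => by ring)

theorem polarOdd_nondeg (two : (2 : F) ≠ 0) : Nondeg (polarOdd (F := F) m) := by
  classical
  intro v hv
  funext k
  rcases k with ⟨⟩ | k | k
  · have h := hv (Pi.single (Sum.inl ()) 1)
    rw [polarOdd_apply] at h
    simp only [Pi.single_apply] at h
    simp at h
    rcases h with h | h
    · exact absurd h two
    · exact h
  · have h := hv (Pi.single (Sum.inr (Sum.inr k)) 1)
    rw [polarOdd_apply] at h
    simp [Pi.single_apply] at h
    exact h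
  · have h := hv (Pi.single (Sum.inr (Sum.inl k)) 1)
    rw [polarOdd_apply] at h
    simp [Pi.single_apply] at h
    exact h

/-- the quadratic space of `quadFormOdd` -/
noncomputable def qOdd (two : (2 : F) ≠ 0) : QSpace F (Unit ⊕ (Fin m ⊕ Fin m)) where
  Q := quadFormOdd m F
  B := polarOdd m
  symm := polarOdd_symm m
  nondeg := polarOdd_nondeg m two
  polar := polarOdd_polar m
  self := polarOdd_self m

theorem qOdd_Q (two : (2 : F) ≠ 0) : (qOdd m two).Q = quadFormOdd m F := rfl

end qodd

end Cfsg.Agent.Lib.Helper5.OrthPrime
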