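import Mathlib
import Cfsg.Agent.Lib.Helper5.OrthPrime.QOdd
import Cfsg.Agent.Lib.Helper5.OrthPrime.OReal2
import Cfsg.Agent.Lib.Helper5.OrthPrime.OStar
import Cfsg.Agent.Lib.Helper5.SemiCount.SpPrime

set_option autoImplicit false

/-!
# Realising characteristic polynomials in the isometry group of a quadratic space
-/

namespace Cfsg.Agent.Lib.Helper5.OrthPrime

open Module Matrix Polynomial Cfsg
open Cfsg.Agent.Lib.Helper5.SemiConj Cfsg.Agent.Lib.Helper5.SemiCount
open Cfsg.Agent.Lib.Helper4.PrimeOrd Cfsg.Agent.Lib.Helper4.SemiMod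

universe u

section glpow
variable {F : Type*} [Field F] [Fintype F] (p : ℕ) [Fact p.Prime] [CharP F p]
  {n r i t : ℕ} {f : Fin t → F[X]}

theorem gl_pow_eq_one_of_Pc (H : FamHyp r i t f) (g : GL (Fin n) F)
    (hg : (orderOf g).Coprime p) (c : Fin t → ℕ)
    (hc : (g : Matrix (Fin n) (Fin n) F).charpoly = Pc n i t f c) : g ^ r = 1 := by
  have := semisimple_of_gl p g hg
  have h0 := aeval_eq_zero_of_semisimple (g : Matrix (Fin n) (Fin n) F) (X ^ r - 1) (by
    intro π' hπ' hd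
    rw [hc] at hd
    exact dvd_pow_sub_one_of_dvd_Pc H c π' hπ' hd)
  simp only [map_sub, map_pow, aeval_X, map_one] at h0
  apply Units.ext
  rw [Units.val_pow_eq_pow_val, Units.val_one]
  exact sub_eq_zero.1 h0

end glpow

namespace QSpace

variable {F : Type u} [Field F] {ι : Type} [Fintype ι] [DecidableEq ι] (S : QSpace F ι)

/-- the isometry group inside `GL_n`, after numbering the coordinates -/
noncomputable def toGL {n : ℕ} (e : ι ≃ Fin n) : ↥(Cfsg.isometryGroup F S.Q) →* GL (Fin n) F :=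
  (Units.map (Matrix.reindexAlgEquiv F F e).toMulEquiv.toMonoidHom).comp
    (Cfsg.isometryGroup F S.Q).subtype

theorem toGL_val {n : ℕ} (e : ι ≃ Fin n) (g : ↥(Cfsg.isometryGroup F S.Q)) :
    ((S.toGL e g : GL (Fin n) F) : Matrix (Fin n) (Fin n) F) =
      Matrix.reindex e e ((g : GL ι F) : Matrix ι ι F) := rfl

theorem toGL_charpoly {n : ℕ} (e : ι ≃ Fin n) (g : ↥(Cfsg.isometryGroup F S.Q)) :
    ((S.toGL e g : GL (Fin n) F) : Matrix (Fin n) (Fin n) F).charpoly =
      ((g : GL ι F) : Matrix ι ι F).charpoly := by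
  rw [toGL_val, Matrix.charpoly_reindex]

theorem toGL_injective {n : ℕ} (e : ι ≃ Fin n) : Function.Injective (S.toGL e) := by
  intro A B h
  have := congrArg Units.val h
  rw [toGL_val, toGL_val] at this
  exact Subtype.ext (Units.ext ((Matrix.reindex _ _).injective this))

/-- **Realisation in the isometry group.** -/
theorem exists_of_symp [Fintype F] (hodd : Fintype.card F % 2 = 1) (two : (2 : F) ≠ 0)
    (p : ℕ) [Fact p.Prime] [CharP F p] (m' : ℕ) (h : ↥(Matrix.symplecticGroup (Fin m') F))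
    (hh : (orderOf h).Coprime p) (r : ℕ) (rodd : Odd r) (hr : h ^ r = 1)
    (h1 : eval 1 (h : Matrix (Fin m' ⊕ Fin m') (Fin m' ⊕ Fin m') F).charpoly ≠ 0) (k₀ : ℕ)
    (hdim : Fintype.card ι = m' + m' + (k₀ + 1)) :
    ∃ g : ↥(Cfsg.isometryGroup F S.Q), g ^ r = 1 ∧
      ((g : GL ι F) : Matrix ι ι F).charpoly =
        (h : Matrix (Fin m' ⊕ Fin m') (Fin m' ⊕ Fin m') F).charpoly * (X - 1) ^ (k₀ + 1) := by
  obtain ⟨E, hE⟩ : ∃ E : IsoData (RingHom.id F) (-1 : F) (Fin m' ⊕ Fin m' → F),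
    E.g = Matrix.toLin' (h : Matrix (Fin m' ⊕ Fin m') (Fin m' ⊕ Fin m') F) :=
    ⟨sympData p m' h hh, rfl⟩
  have hEr : E.g ^ r = 1 := by
    rw [hE, toLin'_pow_eq, ← symp_coe_pow, hr]
    exact Matrix.toLin'_one
  have hEc : LinearMap.charpoly E.g =
      (h : Matrix (Fin m' ⊕ Fin m') (Fin m' ⊕ Fin m') F).charpoly := by
    rw [hE, Matrix.charpoly_toLin']
  have hfix : ∀ v, E.g v = v → v = 0 := by
    intro v hv
    by_contra hv0
    apply h1
    have h2 : Module.End.HasEigenvalue E.g 1 :=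
      Module.End.hasEigenvalue_of_hasEigenvector
        ⟨by rw [Module.End.mem_eigenspace_iff, one_smul]; exact hv, hv0⟩
    rw [Module.End.hasEigenvalue_iff_isRoot_charpoly, hEc] at h2
    exact h2
  obtain ⟨g, gi, hgi1, hgi2, hiso, hgr, hcp⟩ := exists_orth_of_symp hodd two E r rodd hEr hfix k₀
    S.B S.symm S.nondeg (by
      rw [Module.finrank_fintype_fun_eq_card, Module.finrank_fintype_fun_eq_card, hdim,
        Fintype.card_sum, Fintype.card_fin])
  obtain ⟨φ, hφ⟩ : ∃ φ : (ι → F) ≃ₗ[F] (ι → F), ∀ v, φ v = g v :=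
    ⟨LinearEquiv.ofLinearMap g gi (LinearMap.ext hgi2) (LinearMap.ext hgi1), fun v => rfl⟩
  obtain ⟨P, hP⟩ := S.exists_of_isometry two φ (fun x y => by rw [hφ, hφ]; exact hiso x y)
  have hPg : Matrix.toLin' ((P : GL ι F) : Matrix ι ι F) = g :=
    LinearMap.ext (fun v => by rw [Matrix.toLin'_apply, hP, hφ])
  refine ⟨P, ?_, ?_⟩
  · apply Subtype.ext
    apply Units.ext
    rw [S.coe_pow']
    apply Matrix.toLin'.injective
    rw [← toLin'_pow_eq, hPg, hgr]
    exact Matrix.toLin'_one.symm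
  · rw [← Matrix.charpoly_toLin', hPg, hcp, hEc]

end QSpace

end Cfsg.Agent.Lib.Helper5.OrthPrime
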