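import Mathlib
import Cfsg.Agent.Lib.Helper5.OrthPrime.OExist

set_option autoImplicit false

/-!
# Classes of elements of odd prime order in `O_{2m+1}(q)`, `q` odd
-/

namespace Cfsg.Agent.Lib.Helper5.OrthPrime

open Module Matrix Polynomial Cfsg
open Cfsg.Agent.Lib.Helper5.SemiConj Cfsg.Agent.Lib.Helper5.SemiCount
open Cfsg.Agent.Lib.Helper4.PrimeOrd Cfsg.Agent.Lib.Helper4.SemiMod

universe u

section dualcount
variable {F : Type*} [Field F] [Fintype F] {n r i t : ℕ} {f : Fin t → F[X]}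

/-- **The class count in a group with self-dual characteristic polynomials**, in the version
where only elements of order dividing `r` are compared. -/
theorem card_classes_dual' {G : Type*} [Group G] (ρ : G →* GL (Fin n) F)
    (H : FamHyp r i t f) (hr : r.Prime) (π : Fin t → Fin t)
    (hcp : ∀ g : G, g ^ r = 1 → ∃ c : Fin t → ℕ, i * ∑ j, c j ≤ n ∧ (∀ j, c (π j) = c j) ∧
      ((ρ g : GL (Fin n) F) : Matrix (Fin n) (Fin n) F).charpoly = Pc n i t f c)
    (hconj : ∀ g h : G, g ^ r = 1 → h ^ r = 1 →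
      ((ρ g : GL (Fin n) F) : Matrix (Fin n) (Fin n) F).charpoly =
        ((ρ h : GL (Fin n) F) : Matrix (Fin n) (Fin n) F).charpoly → IsConj g h)
    (hreal : ∀ c : Fin t → ℕ, i * ∑ j, c j ≤ n → (∀ j, c (π j) = c j) →
      ∃ g : G, g ^ r = 1 ∧
        ((ρ g : GL (Fin n) F) : Matrix (Fin n) (Fin n) F).charpoly = Pc n i t f c) :
    Nat.card {C : ConjClasses G // ∃ g : G, ConjClasses.mk g = C ∧ orderOf g = r} =
      Nat.card {c : Fin t → ℕ // ∑ j, c j ≤ n / i ∧ c ≠ 0 ∧ ∀ j, c (π j) = c j} := by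
  classical
  have : Fact r.Prime := ⟨hr⟩
  -- representatives
  have hex : ∀ c : Fin t → ℕ, ∃ g : G, i * ∑ j, c j ≤ n → (∀ j, c (π j) = c j) →
      (((ρ g : GL (Fin n) F) : Matrix (Fin n) (Fin n) F).charpoly = Pc n i t f c ∧
        g ^ r = 1) := by
    intro c
    by_cases hc : i * ∑ j, c j ≤ n ∧ ∀ j, c (π j) = c j
    · obtain ⟨g, h1, h2⟩ := hreal c hc.1 hc.2
      exact ⟨g, fun _ _ => ⟨h2, h1⟩⟩
    · exact ⟨1, fun h h' => absurd ⟨h, h'⟩ hc⟩
  choose gsel hsel using hex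
  have hone : (1 : G) ^ r = 1 := one_pow r
  have hch1 : ((ρ (1 : G) : GL (Fin n) F) : Matrix (Fin n) (Fin n) F).charpoly = Pc n i t f 0 := by
    rw [map_one, Pc_zero, Units.val_one, Matrix.charpoly_one, Fintype.card_fin, map_one]
  have hne : ∀ c : Fin t → ℕ, i * ∑ j, c j ≤ n → (∀ j, c (π j) = c j) → c ≠ 0 → gsel c ≠ 1 := by
    intro c hc hc' hc0 h1
    obtain ⟨h2, -⟩ := hsel c hc hc'
    rw [h1, hch1] at h2
    exact hc0 (Pc_injective H _ _ h2).symm
  have hile : ∀ c : Fin t → ℕ, ∑ j, c j ≤ n / i ↔ i * ∑ j, c j ≤ n := by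
    intro c
    rw [Nat.le_div_iff_mul_le H.ipos, mul_comm]
  have hcpconj : ∀ g h : G, IsConj g h →
      ((ρ g : GL (Fin n) F) : Matrix (Fin n) (Fin n) F).charpoly =
        ((ρ h : GL (Fin n) F) : Matrix (Fin n) (Fin n) F).charpoly := by
    intro g h hgh
    obtain ⟨u, hu⟩ := isConj_iff.1 hgh
    apply charpoly_eq_of_gl_conj (ρ u)
    rw [← map_inv, ← map_mul, ← map_mul, hu]
  let Φ : {c : Fin t → ℕ // ∑ j, c j ≤ n / i ∧ c ≠ 0 ∧ ∀ j, c (π j) = c j} →
      {C : ConjClasses G // ∃ g : G, ConjClasses.mk g = C ∧ orderOf g = r} :=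
    fun c => ⟨ConjClasses.mk (gsel c.1), gsel c.1, rfl,
      orderOf_eq_prime (hsel c.1 ((hile c.1).1 c.2.1) c.2.2.2).2
        (hne c.1 ((hile c.1).1 c.2.1) c.2.2.2 c.2.2.1)⟩
  have hΦ : Function.Bijective Φ := by
    constructor
    · intro c c' h
      have h' := congrArg Subtype.val h
      simp only [Φ, ConjClasses.mk_eq_mk_iff_isConj] at h'
      have hcp' := hcpconj _ _ h'
      rw [(hsel c.1 ((hile c.1).1 c.2.1) c.2.2.2).1,
        (hsel c'.1 ((hile c'.1).1 c'.2.1) c'.2.2.2).1] at hcp'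
      exact Subtype.ext (Pc_injective H _ _ hcp')
    · rintro ⟨C, g, rfl, hg⟩
      have hgr : g ^ r = 1 := by rw [← hg]; exact pow_orderOf_eq_one g
      obtain ⟨c, hc, hcπ, hcpg⟩ := hcp g hgr
      have hc0 : c ≠ 0 := by
        rintro rfl
        have : IsConj g 1 := hconj g 1 hgr hone (by rw [hcpg, hch1])
        rw [isConj_one_left] at this
        rw [this, orderOf_one] at hg
        exact hr.one_lt.ne hg
      refine ⟨⟨c, (hile c).2 hc, hc0, hcπ⟩, ?_⟩
      apply Subtype.ext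
      simp only [Φ]
      rw [ConjClasses.mk_eq_mk_iff_isConj]
      exact hconj _ _ (hsel c hc hcπ).2 hgr (by rw [(hsel c hc hcπ).1, hcpg])
  exact (Nat.card_congr (Equiv.ofBijective Φ hΦ)).symm

end dualcount

section main
variable {F : Type u} [Field F] [Fintype F] (p : ℕ) [Fact p.Prime] [CharP F p]
  {r i t : ℕ} {f : Fin t → F[X]}

omit [Fintype F] [Fact p.Prime] [CharP F p] in
theorem card_index (m : ℕ) : Fintype.card (Unit ⊕ (Fin m ⊕ Fin m)) = 2 * m + 1 := by
  rw [Fintype.card_sum, Fintype.card_sum, Fintype.card_fin, Fintype.card_unit]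
  ring

theorem two_ne_zero_of_odd_card (hodd : Fintype.card F % 2 = 1) : (2 : F) ≠ 0 := by
  intro h2
  have h3 := CharTwo.of_one_ne_zero_of_two_eq_zero (one_ne_zero : (1 : F) ≠ 0) h2
  have h4 := FiniteField.even_card_of_char_two ((ringChar.eq_iff).2 h3)
  omega

include p in
/-- realising an invariant exponent vector by an element of order dividing `r` -/
theorem exists_orth_Pc (hodd : Fintype.card F % 2 = 1) (m : ℕ) (rodd : Odd r)
    (H : FamHyp r i t f) (π : Fin t → Fin t)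
    (hπi : Function.Involutive π) (hπ : ∀ j, star (RingHom.id F) (f j) = f (π j))
    (e : (Unit ⊕ (Fin m ⊕ Fin m)) ≃ Fin (2 * m + 1))
    (c : Fin t → ℕ) (hc : i * ∑ j, c j ≤ 2 * m + 1)
    (hcπ : ∀ j, c (π j) = c j) (hpar : Even (i * ∑ j, c j)) :
    ∃ g : ↥(Cfsg.isometryGroup F (qOdd m (two_ne_zero_of_odd_card hodd)).Q), g ^ r = 1 ∧
      (((qOdd m (two_ne_zero_of_odd_card hodd)).toGL e g : GL (Fin (2 * m + 1)) F) :
        Matrix (Fin (2 * m + 1)) (Fin (2 * m + 1)) F).charpoly = Pc (2 * m + 1) i t f c := by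
  have two := two_ne_zero_of_odd_card hodd
  obtain ⟨m', hm'⟩ := hpar
  obtain ⟨h, hh, hch⟩ := exists_symp_Pc p H π hπi hπ c (m := m') hm'.le hcπ ⟨m', hm'⟩
  have hpow : h ^ r = 1 := by
    apply spToGL_injective m'
    rw [map_pow, map_one]
    exact gl_pow_eq_one_of_Pc p H (spToGL m' h)
      (by rw [orderOf_injective (spToGL m') (spToGL_injective m') h]; exact hh) c hch
  rw [spToGL_charpoly] at hch
  have hPc0 : Pc (m' + m') i t f c = ∏ j, f j ^ c j := by
    unfold Pc
    rw [hm', Nat.sub_self, pow_zero, one_mul]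
  have h1 : eval 1 (h : Matrix (Fin m' ⊕ Fin m') (Fin m' ⊕ Fin m') F).charpoly ≠ 0 := by
    rw [hch, hPc0, eval_prod]
    apply Finset.prod_ne_zero_iff.mpr
    intro j _
    rw [eval_pow]
    exact pow_ne_zero _ (eval_one_fam_ne H j)
  have hle : m' ≤ m := by omega
  obtain ⟨g, hg, hcg⟩ := (qOdd m two).exists_of_symp hodd two p m' h hh r rodd hpow h1
    (2 * m - 2 * m') (by rw [card_index]; omega)
  refine ⟨g, hg, ?_⟩
  rw [QSpace.toGL_charpoly, hcg, hch, hPc0]
  unfold Pc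
  rw [hm', map_one, show 2 * m + 1 - (m' + m') = 2 * m - 2 * m' + 1 by omega, mul_comm]

theorem card_odd_orth_prime_order_classes {q : ℕ} (hF : Fintype.card F = q) (hq : Odd q)
    (m r i t : ℕ) (hr : r.Prime) (hr2 : r ≠ 2) (hrp : r ≠ p) (hi : i = orderOf (q : ZMod r))
    (ht : t * i = r - 1) :
    Nat.card {C : ConjClasses ↥(Cfsg.isometryGroup F (Cfsg.quadFormOdd m F)) //
      ∃ g : ↥(Cfsg.isometryGroup F (Cfsg.quadFormOdd m F)), ConjClasses.mk g = C ∧
        orderOf g = r} =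
      if Odd i then Nat.choose (m / i + t / 2) (t / 2) - 1
      else Nat.choose ((2 * m + 1) / i + t) t - 1 := by
  classical
  have : Fact r.Prime := ⟨hr⟩
  have hp : p.Prime := Fact.out
  have hodd : Fintype.card F % 2 = 1 := by rw [hF]; exact Nat.odd_iff.mp hq
  have two := two_ne_zero_of_odd_card hodd
  have rodd : Odd r := hr.odd_of_ne_two hr2
  have r0 : (r : F) ≠ 0 := by
    intro h
    have h1 := (CharP.cast_eq_zero_iff F p r).mp h
    exact hrp ((Nat.prime_dvd_prime_iff_eq hp hr).mp h1).symm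
  have hqr : (q : ZMod r) ≠ 0 := by
    obtain ⟨k, -, hk⟩ := FiniteField.card F p
    rw [Ne, ZMod.natCast_eq_zero_iff, ← hF, hk]
    intro h
    exact hrp ((Nat.prime_dvd_prime_iff_eq hr hp).mp (hr.dvd_of_dvd_pow h))
  have hi' : i = orderOf ((Fintype.card F : ℕ) : ZMod r) := by rw [hF]; exact hi
  obtain ⟨f, H⟩ := exists_family (F := F) p r i t hr hrp hi' ht
  have hσ2 : ∀ a : F, (RingHom.id F) ((RingHom.id F) a) = a := fun a => rfl
  obtain ⟨π, hπi, hπ⟩ := exists_dual_perm (RingHom.id F) hσ2 H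
  have htype : ∀ j, star (RingHom.id F) (f j) = f j ↔ Even i := by
    intro j
    rw [star_eq_self_iff p (RingHom.id F) hσ2 hr 0 (pow_zero p).symm
      (fun a => (pow_one a).symm) (H.monic j) (H.irr j) (H.dvd j) (H.ne1 j), hF, hi]
    exact exists_dvd_pow_add_one_iff hr2 q hqr
  obtain ⟨e⟩ : Nonempty ((Unit ⊕ (Fin m ⊕ Fin m)) ≃ Fin (2 * m + 1)) :=
    ⟨Fintype.equivFinOfCardEq (card_index m)⟩
  have key : ∀ hpar : (∀ c : Fin t → ℕ, (∀ j, c (π j) = c j) → Even (i * ∑ j, c j)),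
      Nat.card {C : ConjClasses ↥(Cfsg.isometryGroup F (qOdd m two).Q) //
        ∃ g : ↥(Cfsg.isometryGroup F (qOdd m two).Q), ConjClasses.mk g = C ∧ orderOf g = r} =
      Nat.card {c : Fin t → ℕ // ∑ j, c j ≤ (2 * m + 1) / i ∧ c ≠ 0 ∧ ∀ j, c (π j) = c j} := by
    intro hpar
    apply card_classes_dual' ((qOdd m two).toGL e) H hr π
    · intro g hg
      apply charpoly_star_of_pc (RingHom.id F) H π hπi hπ _ (by rw [← map_pow, hg, map_one])
      rw [QSpace.toGL_charpoly]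
      exact (qOdd m two).charpoly_star g
    · intro g h hg hh hc
      rw [QSpace.toGL_charpoly, QSpace.toGL_charpoly] at hc
      exact (qOdd m two).isConj_of_charpoly_eq hodd two g h r rodd r0 hg hh hc
    · intro c hc hcπ
      exact exists_orth_Pc p hodd m rodd H π hπi hπ e c hc hcπ (hpar c hcπ)
  change Nat.card {C : ConjClasses ↥(Cfsg.isometryGroup F (qOdd m two).Q) //
        ∃ g : ↥(Cfsg.isometryGroup F (qOdd m two).Q), ConjClasses.mk g = C ∧ orderOf g = r} = _
  by_cases hev : Even i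
  · rw [if_neg (Nat.not_odd_iff_even.mpr hev)]
    have hπid : π = id := by
      funext j
      apply H.inj
      rw [← hπ j]
      exact (htype j).mpr hev
    rw [key (fun c _ => hev.mul_right _), hπid, card_dual_id]
  · rw [if_pos (Nat.not_even_iff_odd.mp hev)]
    have hfp : ∀ j, π j ≠ j := by
      intro j hj
      apply hev
      rw [← htype j, hπ j, hj]
    rw [key (fun c hc => by
        rw [sum_eq_two_mul π hπi hfp c hc]
        exact (even_two_mul _).mul_left _),
      card_dual_fpf π hπi hfp, Nat.div_div_eq_div_mul, mul_comm i 2, ← Nat.div_div_eq_div_mul,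
      show (2 * m + 1) / 2 = m by omega]

end main

end Cfsg.Agent.Lib.Helper5.OrthPrime
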